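import Cfsg.Agent.H157.HK.G
import Cfsg.Agent.H116.HeckeD
import Cfsg.Agent.H116.RealRGD
import Cfsg.Agent.H439.CC.Mult_m3
import Cfsg.Agent.H167.SteinbergRGD
import Cfsg.Agent.H705.Dl.PsRgd
import Cfsg.Agent.FastGrp
import Cfsg.Agent.Prune
set_option linter.all false

section
prune_inst 0x7ffdb9fbbbadfbffdfff7fbfafdefffa31868fffe6fffd4bffee6bbfbbff27b70fef6fad8de090fedf77e21450b87843fb7eefffe86bdc7f63fd5f741ffbee4ff5f7350951dc88b40fbc2fff03f15f1a6f3fffffffffffffffffffffffffffffffffebfeffff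

-- part: H116/HeckeU/Cmp
section
set_option linter.all false
open scoped Cfsg.Agent.FastGrp

-- part: H116/HeckeU/Grp
section
/-!
# The adjacency algebra of a finite building with arbitrary parameters (helper116)

`IsWt Δ t` : the numbers of neighbours are the parameters of the weight `t`.

* `exists_wt` : a building with a strongly transitive group has a weight;
* `ad_Lm` : `ad (Lm u v) = ad u * ad v`;
* `casimir'` : `Ph (Tr (ad v)) = (|G| / |C|) • ad (Cas v)`;
* `map_eq` : `(Cl G).map Ph = (Z cs t).map ad`.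
-/

set_option autoImplicit false
set_option linter.unusedSectionVars false

namespace Cfsg.Agent.H116.HeckeU

open CoxeterSystem Cfsg Cfsg.Agent.Tits.Exchange Module Cfsg.Agent.H157.HK Cfsg.Agent.Tits.Core Matrix
open Cfsg.Agent.H116.HeckeC (ad ad_apply ad_transpose ad_injective Pm Pm_apply Pm_mul_apply mul_Pm_apply Pm_mul Pm_one
  Pm_conjTranspose trace_Pm Pm_comm_iff Ph Ph_apply Tr Tr_apply Ph_comm Tr_classFun trace_Ph_mul)
open Cfsg.Agent.H116.HeckeD (Cl mem_Cl perm adL Pm_ad exists_ad cnt cnt_eq cnt_zero cnt_pos)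
open scoped ComplexConjugate

section Bldg

variable {I W : Type*} {M : CoxeterMatrix I} [Group W] {cs : CoxeterSystem M W} {C : Type*} (Δ : Bldg cs C)

/-- The numbers of neighbours are the parameters of the weight. -/
def IsWt (t : Wt cs) : Prop := ∀ x i, (Nat.card {y // Δ.δ x y = cs.simple i} : ℝ) = t.p i

variable [DecidableEq W]

theorem e_apply (w x : W) : (e w : W → ℂ) x = if x = w then 1 else 0 := Pi.single_apply w 1 x

theorem ad_e (w : W) (x y : C) : ad Δ (e w) x y = if Δ.δ x y = w then 1 else 0 := by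
  rw [ad_apply, e_apply]

variable [Fintype C]

theorem row (x : C) (w : W) : ∑ y, ad Δ (e w) x y = (Nat.card {y // Δ.δ x y = w} : ℂ) := by
  classical
  rw [Finset.sum_congr rfl fun y _ => ad_e Δ w x y, Finset.sum_boole, Nat.card_eq_fintype_card,
    Fintype.card_subtype]

variable [DecidableEq C]

theorem ad_one : ad Δ (e 1) = 1 := by
  ext x y
  rw [ad_e, Matrix.one_apply]
  by_cases h : x = y
  · rw [if_pos h, if_pos ((Δ.eq_one x y).2 h)]
  · rw [if_neg h, if_neg fun h' => h ((Δ.eq_one x y).1 h')]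

theorem ad_simple_mul {i : I} {w : W} (h : cs.length w < cs.length (cs.simple i * w)) :
    ad Δ (e (cs.simple i)) * ad Δ (e w) = ad Δ (e (cs.simple i * w)) := by
  ext x y
  rw [mul_apply, ad_e]
  by_cases h1 : Δ.δ x y = cs.simple i * w
  · obtain ⟨z₀, hz, hz'⟩ := Δ.exists_step y x i
    have hz2 : Δ.δ z₀ y = w := by
      rw [Δ.symm y z₀, hz', Δ.symm x y, h1]
      simp [mul_assoc]
    rw [if_pos h1, Finset.sum_eq_single z₀]
    · rw [ad_e, ad_e, if_pos hz, if_pos hz2, one_mul]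
    · intro z _ hne
      rw [ad_e, ad_e]
      by_cases h2 : Δ.δ x z = cs.simple i
      · by_cases h3 : Δ.δ z y = w
        · exfalso
          have h4 : z ∈ Δ.Pan i z₀ := Δ.mem_Pan_trans (Δ.mem_Pan_symm (Δ.mem_Pan_of_δ hz)) (Δ.mem_Pan_of_δ h2)
          have h5 : Δ.δ z₀ z = cs.simple i := h4.resolve_left hne
          have h6 := Δ.step_lt_left (z := y) h5 (by rw [h3]; exact h)
          rw [hz2, h3] at h6
          rw [← h6] at h
          exact lt_irrefl _ h
        · rw [if_neg h3, mul_zero]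
      · rw [if_neg h2, zero_mul]
    · intro h'
      exact absurd (Finset.mem_univ _) h'
  · rw [if_neg h1]
    refine Finset.sum_eq_zero fun z _ => ?_
    rw [ad_e, ad_e]
    by_cases h2 : Δ.δ x z = cs.simple i
    · by_cases h3 : Δ.δ z y = w
      · exfalso
        have h6 := Δ.step_lt_left (z := y) h2 (by rw [h3]; exact h)
        exact h1 (by rw [h6, h3])
      · rw [if_neg h3, mul_zero]
    · rw [if_neg h2, zero_mul]

/-- A building whose numbers `|{y | δ x y = w}|` do not depend on `x` has a weight. -/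
theorem exists_wt_of [Nonempty C] (h : ∀ (x x' : C) (w : W), Nat.card {y // Δ.δ x y = w} = Nat.card {y // Δ.δ x' y = w}) :
    ∃ t : Wt cs, IsWt Δ t := by
  obtain ⟨x₀⟩ := ‹Nonempty C›
  have hmul : ∀ (i : I) (w : W), cs.length w < cs.length (cs.simple i * w) →
      (Nat.card {y // Δ.δ x₀ y = cs.simple i * w} : ℂ) =
        Nat.card {y // Δ.δ x₀ y = cs.simple i} * Nat.card {y // Δ.δ x₀ y = w} := by
    intro i w hl
    rw [← row, ← ad_simple_mul Δ hl]
    simp only [mul_apply]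
    rw [Finset.sum_comm]
    have h1 : ∀ z : C, ∑ y, ad Δ (e (cs.simple i)) x₀ z * ad Δ (e w) z y =
        ad Δ (e (cs.simple i)) x₀ z * Nat.card {y // Δ.δ x₀ y = w} := by
      intro z
      rw [← Finset.mul_sum, row, h z x₀]
    rw [Finset.sum_congr rfl fun z _ => h1 z, ← Finset.sum_mul, row]
  have hpos : ∀ w, 0 < Nat.card {y // Δ.δ x₀ y = w} := by
    intro w
    obtain ⟨y, hy⟩ := Δ.exists_δ x₀ w
    have : Nonempty {y // Δ.δ x₀ y = w} := ⟨⟨y, hy⟩⟩
    exact Nat.card_pos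
  refine ⟨⟨fun w => Real.log (Nat.card {y // Δ.δ x₀ y = w}), ?_, ?_⟩, ?_⟩
  · have h1 : Nat.card {y // Δ.δ x₀ y = 1} = 1 := by
      rw [Nat.card_eq_one_iff_unique]
      refine ⟨⟨fun a b => Subtype.ext ?_⟩, ⟨⟨x₀, (Δ.eq_one x₀ x₀).2 rfl⟩⟩⟩
      rw [← (Δ.eq_one x₀ a.1).1 a.2, ← (Δ.eq_one x₀ b.1).1 b.2]
    rw [h1, Nat.cast_one, Real.log_one]
  · intro i w hl
    have h1 : (Nat.card {y // Δ.δ x₀ y = cs.simple i * w} : ℝ) =
        Nat.card {y // Δ.δ x₀ y = cs.simple i} * Nat.card {y // Δ.δ x₀ y = w} := by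
      exact_mod_cast hmul i w hl
    rw [h1, Real.log_mul (by exact_mod_cast (hpos _).ne') (by exact_mod_cast (hpos _).ne')]
  · intro x i
    unfold Wt.p
    rw [Real.exp_log (by exact_mod_cast hpos _), h x x₀]

variable {t : Wt cs} (ht : IsWt Δ t)

include ht

theorem card_filter (x : C) (i : I) : ((Finset.univ.filter fun y => Δ.δ x y = cs.simple i).card : ℂ) = (t.p i : ℂ) := by
  rw [← ht x i, Nat.card_eq_fintype_card, Fintype.card_subtype]
  push_cast
  rfl

/-- Right multiplication by the matrix of a fundamental reflection. -/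
theorem ad_R (v : W → ℂ) (i : I) : ad Δ (R cs t i v) = ad Δ v * ad Δ (e (cs.simple i)) := by
  symm
  ext x z
  rw [mul_apply, ad_apply, H157.HK.R_apply]
  have h0 : ∀ y, ad Δ v x y * ad Δ (e (cs.simple i)) y z =
      if Δ.δ z y = cs.simple i then v (Δ.δ x y) else 0 := by
    intro y
    rw [ad_apply, ad_e, mul_ite, mul_one, mul_zero]
    have : Δ.δ y z = cs.simple i ↔ Δ.δ z y = cs.simple i :=
      ⟨fun h => Δ.δ_symm_simple h, fun h => Δ.δ_symm_simple h⟩
    by_cases h : Δ.δ y z = cs.simple i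
    · rw [if_pos h, if_pos (this.1 h)]
    · rw [if_neg h, if_neg fun h' => h (this.2 h')]
  rw [Finset.sum_congr rfl fun y _ => h0 y, ← Finset.sum_filter]
  rcases cs.length_mul_simple (Δ.δ x z) i with hl | hl
  · rw [if_neg (by omega)]
    have h1 : ∀ y ∈ Finset.univ.filter (fun y => Δ.δ z y = cs.simple i), v (Δ.δ x y) = v (Δ.δ x z * cs.simple i) := by
      intro y hy
      rw [Δ.step_lt x z y i (Finset.mem_filter.1 hy).2 (by omega)]
    rw [Finset.sum_congr rfl h1, Finset.sum_const, nsmul_eq_mul, card_filter Δ ht]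
  · rw [if_pos (by omega)]
    obtain ⟨y₀, hy₀, hy₀'⟩ := Δ.exists_step x z i
    have hmem : y₀ ∈ Finset.univ.filter (fun y => Δ.δ z y = cs.simple i) :=
      Finset.mem_filter.2 ⟨Finset.mem_univ _, hy₀⟩
    have h1 : ∀ y ∈ (Finset.univ.filter (fun y => Δ.δ z y = cs.simple i)).erase y₀, v (Δ.δ x y) = v (Δ.δ x z) := by
      intro y hy
      obtain ⟨hne, hy⟩ := Finset.mem_erase.1 hy
      have hy1 := (Finset.mem_filter.1 hy).2
      have h2 : y ∈ Δ.Pan i y₀ :=
        Δ.mem_Pan_trans (Δ.mem_Pan_symm (Δ.mem_Pan_of_δ hy₀)) (Δ.mem_Pan_of_δ hy1)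
      have h3 : Δ.δ y₀ y = cs.simple i := h2.resolve_left hne
      have h4 := Δ.step_lt x y₀ y i h3 (by
        rw [hy₀', mul_assoc, cs.simple_mul_simple_self, mul_one]; omega)
      rw [h4, hy₀', mul_assoc, cs.simple_mul_simple_self, mul_one]
    have hpos : 1 ≤ (Finset.univ.filter fun y => Δ.δ z y = cs.simple i).card := Finset.card_pos.2 ⟨y₀, hmem⟩
    rw [← Finset.add_sum_erase _ _ hmem, Finset.sum_congr rfl h1, Finset.sum_const,
      Finset.card_erase_of_mem hmem, hy₀', nsmul_eq_mul, Nat.cast_sub hpos, card_filter Δ ht, Nat.cast_one]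

/-- Left multiplication by the matrix of a fundamental reflection. -/
theorem ad_L (v : W → ℂ) (i : I) : ad Δ (L cs t i v) = ad Δ (e (cs.simple i)) * ad Δ v := by
  symm
  have h1 : (ad Δ (e (cs.simple i)))ᵀ = ad Δ (e (cs.simple i)) := by
    rw [ad_transpose]
    congr 1
    funext w
    rw [e_apply, e_apply]
    congr 1
    rw [inv_eq_iff_eq_inv, cs.inv_simple]
  rw [← transpose_inj, transpose_mul, h1, ad_transpose, ad_transpose, ← ad_R Δ ht]
  congr 1
  funext w
  rw [H157.HK.R_apply, H157.HK.L_apply]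
  have h2 : (w * cs.simple i)⁻¹ = cs.simple i * w⁻¹ := by rw [_root_.mul_inv_rev, cs.inv_simple]
  rw [h2, ← cs.length_inv w, ← cs.length_inv (w * cs.simple i), h2]

theorem ad_LL (v : W → ℂ) (ω : List I) : ad Δ (LL cs t ω v) = ad Δ (LL cs t ω (e 1)) * ad Δ v := by
  induction ω with
  | nil => rw [LL_nil, Module.End.one_apply, Module.End.one_apply, ad_one, one_mul]
  | cons i ω ih =>
    rw [LL_cons, Module.End.mul_apply, Module.End.mul_apply, ad_L Δ ht, ad_L Δ ht, ih, mul_assoc]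

omit ht [DecidableEq W] [DecidableEq C] in
theorem ad_sum {ι : Type*} (s : Finset ι) (f : ι → W → ℂ) : ad Δ (∑ a ∈ s, f a) = ∑ a ∈ s, ad Δ (f a) :=
  map_sum (adL Δ) f s

omit ht [DecidableEq W] [Fintype C] [DecidableEq C] in
theorem ad_smul (c : ℂ) (v : W → ℂ) : ad Δ (c • v) = c • ad Δ v := rfl

variable [Fintype W]

/-- **`ad` is multiplicative.** -/
theorem ad_Lm (u v : W → ℂ) : ad Δ (Lm cs t u v) = ad Δ u * ad Δ v := by
  rw [Lm_apply, LinearMap.sum_apply, ad_sum]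
  have h1 : ∀ w, ad Δ ((u w • LL cs t (wd cs w)) v) = u w • ad Δ (e w) * ad Δ v := by
    intro w
    rw [LinearMap.smul_apply, ad_smul, ad_LL Δ ht, LL_e_one cs t (wd_reduced cs w), wd_prod, smul_mul_assoc]
  rw [Finset.sum_congr rfl fun w _ => h1 w, ← Finset.sum_mul]
  congr 1
  conv_rhs => rw [← sum_e u, ad_sum]
  rfl

theorem mem_Z_comm [Nonempty C] (v : W → ℂ) :
    v ∈ Z cs t ↔ ∀ i, ad Δ (e (cs.simple i)) * ad Δ v = ad Δ v * ad Δ (e (cs.simple i)) := by
  rw [mem_Z]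
  refine forall_congr' fun i => ?_
  rw [← ad_L Δ ht, ← ad_R Δ ht]
  exact ⟨fun h => by rw [h], fun h => ad_injective Δ h⟩

theorem row_eq (x : C) (w : W) : (Nat.card {y // Δ.δ x y = w} : ℂ) = (t.f w : ℂ) := by
  rw [← row]
  obtain ⟨ω, hω, rfl⟩ := cs.exists_isReduced w
  induction ω generalizing x with
  | nil =>
    rw [wordProd_nil, ad_one, t.f_one]
    simp only [Matrix.one_apply, _root_.Matrix.one_apply, _root_.Finset.sum_ite_eq, _root_.Finset.mem_univ, ↓ _root_.reduceIte, _root_.Complex.ofReal_one]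
  | cons i ω ih =>
    have hr := reduced_tail cs hω
    have hl : cs.length (cs.wordProd ω) < cs.length (cs.simple i * cs.wordProd ω) := Wt.lt_cons hω
    rw [wordProd_cons, ← ad_simple_mul Δ hl, t.f_mul hl]
    simp only [mul_apply]
    rw [Finset.sum_comm]
    have h1 : ∀ z : C, ∑ y, ad Δ (e (cs.simple i)) x z * ad Δ (e (cs.wordProd ω)) z y =
        ad Δ (e (cs.simple i)) x z * (t.f (cs.wordProd ω) : ℂ) := by
      intro z
      rw [← Finset.mul_sum, ih z hr]
    rw [Finset.sum_congr rfl fun z _ => h1 z, ← Finset.sum_mul, row, Complex.ofReal_mul, ← ht x i]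
    push_cast
    rfl

end Bldg

end Cfsg.Agent.H116.HeckeU
end

-- part: H116/HeckeU/Cas
section
/-!
# The Casimir operator of a strongly transitive group on a finite building with arbitrary parameters (helper116)

* `casimir'` : `Ph (Tr (ad v)) = (|G| / |C|) • ad (Cas v)`;
* `map_eq` : `(Cl G).map Ph = (Z cs t).map ad`.
-/

set_option autoImplicit false
set_option linter.unusedSectionVars false

namespace Cfsg.Agent.H116.HeckeU

open CoxeterSystem Cfsg Cfsg.Agent.Tits.Exchange Module Cfsg.Agent.H157.HK Cfsg.Agent.Tits.Core Matrix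
open Cfsg.Agent.H116.HeckeC (ad ad_apply ad_transpose ad_injective Pm Pm_apply Pm_mul_apply mul_Pm_apply Pm_mul Pm_one
  Pm_conjTranspose trace_Pm Pm_comm_iff Ph Ph_apply Tr Tr_apply Ph_comm Tr_classFun trace_Ph_mul)
open Cfsg.Agent.H116.HeckeD (Cl mem_Cl perm adL Pm_ad exists_ad cnt cnt_eq cnt_zero cnt_pos)
open scoped ComplexConjugate

variable {I W : Type*} {M : CoxeterMatrix I} [Group W] {cs : CoxeterSystem M W} {C : Type*} (Δ : Bldg cs C)
  [Fintype C] [DecidableEq C] {G : Type*} [Group G] [Fintype G] [MulAction G C]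
  (hiso : ∀ (g : G) (x y : C), Δ.δ (g • x) (g • y) = Δ.δ x y)
  (htr : ∀ x y x' y' : C, Δ.δ x y = Δ.δ x' y' → ∃ g : G, g • x = x' ∧ g • y = y')
  [DecidableEq W] [Fintype W] {t : Wt cs} (ht : IsWt Δ t)

include hiso htr in
omit [Fintype C] [DecidableEq C] [Fintype G] [DecidableEq W] [Fintype W] in
theorem card_indep (x x' : C) (w : W) : Nat.card {y // Δ.δ x y = w} = Nat.card {y // Δ.δ x' y = w} := by
  obtain ⟨g, hg, -⟩ := htr x x x' x' (by rw [(Δ.eq_one x x).2 rfl, (Δ.eq_one x' x').2 rfl])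
  refine Nat.card_congr (Equiv.subtypeEquiv (MulAction.toPerm g) fun y => ?_)
  rw [MulAction.toPerm_apply, ← hg, hiso]

include hiso htr ht in
/-- The number of the elements fixing two chambers. -/
theorem cnt_mul (x y : C) {w : W} (hw : Δ.δ x y = w) :
    (cnt G x y x y : ℂ) * ((Nat.card C : ℂ) * t.f w) = Nat.card G := by
  have h1 : ∀ x' y' : C, (cnt G x y x' y' : ℂ) = if Δ.δ x' y' = w then (cnt G x y x y : ℂ) else 0 := by
    intro x' y'
    by_cases h : Δ.δ x' y' = w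
    · rw [if_pos h]
      exact_mod_cast cnt_eq Δ htr (x := x) (u := y) (y := x') (u' := y') (x₁ := x) (u₁ := y) (y₁ := x) (u₁' := y)
        (by rw [hw, h]) rfl (by rw [hw, h])
    · rw [if_neg h, cnt_zero Δ hiso (by rw [hw]; exact fun h' => h h'.symm), Nat.cast_zero]
  have h2 : ∑ x', ∑ y', (cnt G x y x' y' : ℂ) = Nat.card G := by
    have h3 : ∀ x' y' : C, (cnt G x y x' y' : ℂ) = ∑ g : G, if g • x = x' ∧ g • y = y' then 1 else 0 := by
      intro x' y'
      rw [Finset.sum_boole]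
      unfold cnt
      rw [Nat.card_eq_fintype_card, Fintype.card_subtype]
    simp only [h3]
    rw [Finset.sum_congr rfl fun x' _ => Finset.sum_comm, Finset.sum_comm]
    have h4 : ∀ g : G, ∑ x', ∑ y', (if g • x = x' ∧ g • y = y' then (1 : ℂ) else 0) = 1 := by
      intro g
      rw [Finset.sum_eq_single (g • x), Finset.sum_eq_single (g • y)]
      · rw [if_pos ⟨rfl, rfl⟩]
      · intro b _ hb
        rw [if_neg fun h => hb h.2.symm]
      · intro h
        exact absurd (Finset.mem_univ _) h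
      · intro a _ ha
        exact Finset.sum_eq_zero fun b _ => if_neg fun h => ha h.1.symm
      · intro h
        exact absurd (Finset.mem_univ _) h
    rw [Finset.sum_congr rfl fun g _ => h4 g, Finset.sum_const, Finset.card_univ, nsmul_eq_mul, mul_one,
      Nat.card_eq_fintype_card]
  rw [← h2, Finset.sum_congr rfl fun x' _ => Finset.sum_congr rfl fun y' _ => h1 x' y']
  have h5 : ∀ x' : C, ∑ y', (if Δ.δ x' y' = w then (cnt G x y x y : ℂ) else 0) = cnt G x y x y * t.f w := by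
    intro x'
    rw [← row_eq Δ ht x' w, ← row Δ x' w, Finset.mul_sum]
    refine Finset.sum_congr rfl fun y' _ => ?_
    rw [ad_e, mul_ite, mul_one, mul_zero]
  rw [Finset.sum_congr rfl fun x' _ => h5 x', Finset.sum_const, Finset.card_univ, nsmul_eq_mul,
    Nat.card_eq_fintype_card]
  ring

include hiso htr ht in
theorem casimir_mat [Nonempty C] (X : Matrix C C ℂ) :
    Ph C (Tr (G := G) C X) =
      ((Nat.card G : ℂ) / Nat.card C) • ∑ w, (t.f w : ℂ)⁻¹ • (ad Δ (e w) * X * (ad Δ (e w))ᵀ) := by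
  obtain ⟨x₀⟩ := ‹Nonempty C›
  have hC0 : (Nat.card C : ℂ) ≠ 0 := by
    have : Nonempty C := ⟨x₀⟩
    exact_mod_cast Nat.card_pos.ne'
  have hcnt : ∀ x u y u' : C, ((cnt G x u y u' : ℕ) : ℂ) =
      if Δ.δ x u = Δ.δ y u' then (Nat.card G : ℂ) / Nat.card C * (t.f (Δ.δ x u) : ℂ)⁻¹ else 0 := by
    intro x u y u'
    by_cases h : Δ.δ x u = Δ.δ y u'
    · have h1 := cnt_mul Δ hiso htr ht (G := G) x u rfl
      have h2 : cnt G x u y u' = cnt G x u x u :=
        cnt_eq Δ htr (x := x) (u := u) (y := y) (u' := u') (x₁ := x) (u₁ := u) (y₁ := x) (u₁' := u) h rfl h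
      have h3 : (t.f (Δ.δ x u) : ℂ) ≠ 0 := by exact_mod_cast (t.f_pos _).ne'
      rw [if_pos h, h2, ← h1]
      field_simp
    · rw [if_neg h, cnt_zero Δ hiso h, Nat.cast_zero]
  ext x y
  -- left hand side
  have hL : Ph C (Tr (G := G) C X) x y = ∑ u, ∑ u', ((cnt G x u y u' : ℕ) : ℂ) * X u u' := by
    rw [Ph_apply, Matrix.sum_apply]
    have h1 : ∀ g : G, (Tr C X g • Pm C g⁻¹) x y = ∑ u, ∑ u', if g • x = y ∧ g • u = u' then X u u' else 0 := by
      intro g
      rw [Matrix.smul_apply, smul_eq_mul, Tr_apply, trace, Finset.sum_mul]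
      refine Finset.sum_congr rfl fun u _ => ?_
      rw [diag_apply, mul_Pm_apply, Pm_apply]
      have h2 : x = g⁻¹ • y ↔ g • x = y := by rw [eq_inv_smul_iff]
      by_cases h3 : g • x = y
      · rw [if_pos (h2.2 h3), mul_one, Finset.sum_eq_single (g • u)]
        · rw [if_pos ⟨h3, rfl⟩]
        · intro u' _ hu'
          rw [if_neg fun h => hu' h.2.symm]
        · intro h
          exact absurd (Finset.mem_univ _) h
      · rw [if_neg fun h => h3 (h2.1 h), mul_zero]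
        symm
        exact Finset.sum_eq_zero fun u' _ => if_neg fun h' => h3 h'.1
    rw [Finset.sum_congr rfl fun g _ => h1 g, Finset.sum_comm]
    refine Finset.sum_congr rfl fun u _ => ?_
    rw [Finset.sum_comm]
    refine Finset.sum_congr rfl fun u' _ => ?_
    rw [← Finset.sum_filter, Finset.sum_const, nsmul_eq_mul]
    congr 2
    unfold cnt
    rw [Nat.card_eq_fintype_card, Fintype.card_subtype]
  -- right hand side
  have hR : ∀ w, (ad Δ (e w) * X * (ad Δ (e w))ᵀ) x y =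
      ∑ u, ∑ u', (if Δ.δ x u = w ∧ Δ.δ y u' = w then X u u' else 0) := by
    intro w
    rw [mul_apply, Finset.sum_comm]
    refine Finset.sum_congr rfl fun u' _ => ?_
    rw [mul_apply, transpose_apply, ad_apply, e_apply, Finset.sum_mul]
    refine Finset.sum_congr rfl fun u _ => ?_
    rw [ad_apply, e_apply]
    by_cases h1 : Δ.δ x u = w
    · by_cases h2 : Δ.δ y u' = w
      · rw [if_pos h1, if_pos h2, if_pos ⟨h1, h2⟩, one_mul, mul_one]
      · rw [if_neg h2, mul_zero, if_neg (c := Δ.δ x u = w ∧ Δ.δ y u' = w) fun h => h2 h.2]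
    · rw [if_neg h1, zero_mul, zero_mul, if_neg (c := Δ.δ x u = w ∧ Δ.δ y u' = w) fun h => h1 h.1]
  rw [hL, Matrix.smul_apply, Matrix.sum_apply]
  simp only [Matrix.smul_apply, smul_eq_mul, hR, Finset.mul_sum]
  rw [Finset.sum_comm' (s := (Finset.univ : Finset W)) (t := fun _ => (Finset.univ : Finset C))
    (t' := (Finset.univ : Finset C)) (s' := fun _ => (Finset.univ : Finset W)) (by simp)]
  refine Finset.sum_congr rfl fun u _ => ?_
  rw [Finset.sum_comm' (s := (Finset.univ : Finset W)) (t := fun _ => (Finset.univ : Finset C))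
    (t' := (Finset.univ : Finset C)) (s' := fun _ => (Finset.univ : Finset W)) (by simp)]
  refine Finset.sum_congr rfl fun u' _ => ?_
  rw [hcnt, Finset.sum_eq_single (Δ.δ x u)]
  · by_cases h : Δ.δ x u = Δ.δ y u'
    · rw [if_pos h, if_pos ⟨rfl, h.symm⟩]
      ring
    · rw [if_neg h, if_neg fun h' => h h'.2.symm, zero_mul, mul_zero, mul_zero]
  · intro w _ hw
    rw [if_neg fun h => hw h.1.symm, mul_zero, mul_zero]
  · intro h
    exact absurd (Finset.mem_univ _) h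

theorem ad_e_transpose (w : W) : (ad Δ (e w))ᵀ = ad Δ (e w⁻¹) := by
  rw [ad_transpose]
  congr 1
  funext x
  rw [e_apply, e_apply]
  congr 1
  rw [inv_eq_iff_eq_inv]

include hiso htr ht in
/-- **The Casimir operator.** -/
theorem casimir' [Nonempty C] (v : W → ℂ) :
    Ph C (Tr (G := G) C (ad Δ v)) = ((Nat.card G : ℂ) / Nat.card C) • ad Δ (Cas cs t v) := by
  rw [casimir_mat Δ hiso htr ht, Cas_apply, ad_sum]
  congr 1
  refine Finset.sum_congr rfl fun w _ => ?_
  rw [ad_smul, ad_Lm Δ ht, Rm_eq, ad_Lm Δ ht, ad_e_transpose, mul_assoc]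

include hiso htr ht in
/-- The class functions act on `ℂ^C` as the centre of the Hecke algebra. -/
theorem map_eq [Nonempty C] : (Cl G).map (Ph C) = (Z cs t).map (adL Δ) := by
  have hG0 : (Nat.card G : ℂ) ≠ 0 := by exact_mod_cast Nat.card_pos.ne'
  have hC0 : (Nat.card C : ℂ) ≠ 0 := by exact_mod_cast Nat.card_pos.ne'
  apply le_antisymm
  · rintro _ ⟨f, hf, rfl⟩
    obtain ⟨v, hv⟩ := exists_ad Δ htr (X := Ph C f) fun g => Ph_comm hf g
    refine ⟨v, ?_, hv.symm⟩
    rw [SetLike.mem_coe, mem_Z_comm Δ ht]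
    intro i
    rw [← hv, Ph_apply, Finset.mul_sum, Finset.sum_mul]
    refine Finset.sum_congr rfl fun g _ => ?_
    rw [mul_smul_comm, smul_mul_assoc, Pm_ad Δ hiso]
  · rintro _ ⟨z, hz, rfl⟩
    -- `Cas` is onto the centre
    have h1 : LinearMap.range (Cas cs t) = Z cs t :=
      Submodule.eq_of_le_of_finrank_eq (range_Cas_le cs t) (finrank_range_Cas cs t)
    have h2 : z ∈ LinearMap.range (Cas cs t) := h1 ▸ hz
    obtain ⟨v, rfl⟩ := h2
    refine ⟨((Nat.card G : ℂ) / Nat.card C)⁻¹ • Tr (G := G) C (ad Δ v), ?_, ?_⟩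
    · exact Submodule.smul_mem _ _ fun g h => Tr_classFun (Pm_ad Δ hiso v) g h
    · rw [map_smul, casimir' Δ hiso htr ht, smul_smul, inv_mul_cancel₀ (div_ne_zero hG0 hC0), one_smul]
      rfl

end Cfsg.Agent.H116.HeckeU
end

-- part: H116/HeckeU/Rank
section
/-!
# Parabolic virtual characters and the centre of the Hecke algebra (helper116)

`Tr C (ad Δ v)` is the class function `g ↦ tr (v g)` on the group `G` (`v` in the Hecke algebra).

* `classInner_Tr` : `⟨Tr X, χ⟩ = |G|⁻¹ tr (X Ph χ)`;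
* `Ph_mul` : `Ph f * Ph χ = (|G| ⟨f, χ⟩ / χ(1)) • Ph χ`;
* `finrank_eq_card_ne` : **the number of the irreducible characters `χ` with `⟨Tr (ad v), χ⟩ ≠ 0` is the rank of the
  multiplication by `Cas v` on the centre of the Hecke algebra**;
* `gram` : `⟨Tr (ad u), Tr (ad v)⟩ = tr (x ↦ v x u)` on the Hecke algebra, for `v` real and symmetric.
-/

set_option autoImplicit false
set_option linter.unusedSectionVars false

namespace Cfsg.Agent.H116.HeckeU

open CoxeterSystem Cfsg Cfsg.Agent.Tits.Exchange Module Cfsg.Agent.H157.HK Cfsg.Agent.Tits.Core Matrix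
  Cfsg.Agent.Characters.Core
open Cfsg.Agent.H116.HeckeC (ad ad_apply ad_transpose ad_injective Pm Pm_apply Pm_mul_apply mul_Pm_apply Pm_mul Pm_one
  Pm_conjTranspose trace_Pm Pm_comm_iff Ph Ph_apply Tr Tr_apply Ph_comm Tr_classFun trace_Ph_mul)
open Cfsg.Agent.H116.HeckeD (Cl mem_Cl perm adL Pm_ad exists_ad cnt cnt_eq cnt_zero cnt_pos Tr_Ph_irr Ph_eq_zero
  irr_linearIndependent')
open scoped ComplexConjugate

universe u

section Char

variable {G : Type u} [Group G] [Fintype G] {C : Type*} [Fintype C] [DecidableEq C] [MulAction G C]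

theorem classInner_Tr (X : Matrix C C ℂ) {χ : G → ℂ} (hχ : IsIrrCharacter G χ) :
    classInner (Tr (G := G) C X) χ = (Nat.card G : ℂ)⁻¹ * trace (X * Ph C χ) := by
  rw [classInner_def]
  congr 1
  rw [Ph_apply, Finset.mul_sum, trace_sum]
  refine Fintype.sum_equiv (Equiv.inv G) _ _ fun g => ?_
  rw [Equiv.inv_apply, inv_inv, mul_smul_comm, trace_smul, smul_eq_mul, Tr_apply,
    isCharacter_apply_inv (isIrr_isCharacter hχ), mul_comm]

/-- Multiplication by the image of an irreducible character. -/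
theorem Ph_mul {f χ : G → ℂ} (hf : f ∈ Cl G) (hχ : IsIrrCharacter G χ) :
    Ph C f * Ph C χ = ((Nat.card G : ℂ) * classInner f χ / χ 1) • Ph C χ := by
  have h1 : Ph C f * Ph C χ = ∑ k : G, (∑ z, f (k * z) * conj (χ z)) • Pm C k⁻¹ := by
    rw [Ph_apply, Ph_apply, Finset.sum_mul]
    simp only [Finset.mul_sum, smul_mul_assoc, mul_smul_comm, smul_smul, ← Pm_mul, Finset.sum_smul]
    rw [Finset.sum_comm, Finset.sum_comm (s := Finset.univ) (t := Finset.univ)
      (f := fun k z => (f (k * z) * conj (χ z)) • Pm C k⁻¹)]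
    refine Fintype.sum_equiv (Equiv.inv G) _ _ fun h => ?_
    refine Fintype.sum_equiv (Equiv.mulLeft h) _ _ fun g => ?_
    rw [Equiv.inv_apply, Equiv.coe_mulLeft, ← isCharacter_apply_inv (isIrr_isCharacter hχ), inv_inv, _root_.mul_inv_rev,
      hf g h, mul_comm (χ h)]
  rw [h1, Ph_apply, Finset.smul_sum]
  refine Finset.sum_congr rfl fun k _ => ?_
  rw [Classification.TypeZIV.Parity.sum_conv hf hχ k, smul_smul, classInner_def, ← mul_assoc,
    mul_inv_cancel₀ card_ne_zero_complex, one_mul]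

/-- The images of the constituents are linearly independent. -/
theorem linearIndependent_Ph :
    LinearIndependent ℂ (fun χ : {χ : IrrCharacter G // classInner (perm G C) (χ : G → ℂ) ≠ 0} =>
      Ph C (χ.1 : G → ℂ)) := by
  apply LinearIndependent.of_comp (Tr (G := G) C)
  have h1 : (Tr (G := G) C ∘ fun χ : {χ : IrrCharacter G // classInner (perm G C) (χ : G → ℂ) ≠ 0} =>
      Ph C (χ.1 : G → ℂ)) = fun χ =>
      ((Nat.card G : ℂ) * classInner (perm G C) (χ.1 : G → ℂ) / (χ.1 : G → ℂ) 1) • (χ.1 : G → ℂ) := by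
    funext χ
    exact Tr_Ph_irr C χ.1.2
  rw [h1]
  have h2 : LinearIndependent ℂ (fun χ : {χ : IrrCharacter G // classInner (perm G C) (χ : G → ℂ) ≠ 0} =>
      (χ.1 : G → ℂ)) := (irr_linearIndependent' (G := G)).comp _ Subtype.val_injective
  have h3 : ∀ χ : {χ : IrrCharacter G // classInner (perm G C) (χ : G → ℂ) ≠ 0},
      (Nat.card G : ℂ) * classInner (perm G C) (χ.1 : G → ℂ) / (χ.1 : G → ℂ) 1 ≠ 0 := fun χ =>
    div_ne_zero (mul_ne_zero card_ne_zero_complex χ.2) (isIrr_apply_one_ne_zero χ.1.2)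
  exact h2.units_smul fun χ => Units.mk0 _ (h3 χ)

/-- The rank of the multiplication by `Ph f` on the images of the class functions. -/
theorem finrank_mulLeft {f : G → ℂ} (hf : f ∈ Cl G)
    (hf0 : ∀ χ : IrrCharacter G, classInner (perm G C) (χ : G → ℂ) = 0 → classInner f (χ : G → ℂ) = 0) :
    finrank ℂ (((Cl G).map (Ph C)).map (LinearMap.mulLeft ℂ (Ph C f))) =
      Nat.card {χ : IrrCharacter G // classInner f (χ : G → ℂ) ≠ 0} := by
  classical
  have hfin : Finite (IrrCharacter G) := finite_irr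
  let _ : Fintype (IrrCharacter G) := Fintype.ofFinite _
  let b : {χ : IrrCharacter G // classInner f (χ : G → ℂ) ≠ 0} → Matrix C C ℂ := fun χ => Ph C (χ.1 : G → ℂ)
  have hb : LinearIndependent ℂ b := by
    have h1 := (linearIndependent_Ph (G := G) (C := C)).comp
      (fun χ : {χ : IrrCharacter G // classInner f (χ : G → ℂ) ≠ 0} =>
        (⟨χ.1, fun h => χ.2 (hf0 χ.1 h)⟩ : {χ : IrrCharacter G // classInner (perm G C) (χ : G → ℂ) ≠ 0}))
      (fun a b h => Subtype.ext (congrArg (fun z => z.1) h))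
    exact h1
  have hspan : ((Cl G).map (Ph C)).map (LinearMap.mulLeft ℂ (Ph C f)) = Submodule.span ℂ (Set.range b) := by
    apply le_antisymm
    · rintro _ ⟨_, ⟨f', hf', rfl⟩, rfl⟩
      rw [classFunction_eq_sum (mem_Cl.1 hf'), map_sum, map_sum]
      refine Submodule.sum_mem _ fun χ _ => ?_
      rw [map_smul, map_smul, LinearMap.mulLeft_apply, Ph_mul hf χ.2]
      apply Submodule.smul_mem
      by_cases h : classInner f (χ : G → ℂ) = 0
      · rw [h, mul_zero, zero_div, zero_smul]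
        exact Submodule.zero_mem _
      · exact Submodule.smul_mem _ _ (Submodule.subset_span ⟨⟨χ, h⟩, rfl⟩)
    · rw [Submodule.span_le]
      rintro _ ⟨χ, rfl⟩
      have h3 : (Nat.card G : ℂ) * classInner f (χ.1 : G → ℂ) / (χ.1 : G → ℂ) 1 ≠ 0 :=
        div_ne_zero (mul_ne_zero card_ne_zero_complex χ.2) (isIrr_apply_one_ne_zero χ.1.2)
      refine ⟨((Nat.card G : ℂ) * classInner f (χ.1 : G → ℂ) / (χ.1 : G → ℂ) 1)⁻¹ • Ph C (χ.1 : G → ℂ),
        Submodule.smul_mem _ _ ⟨χ.1, isIrr_isClassFunction χ.1.2, rfl⟩, ?_⟩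
      rw [map_smul, LinearMap.mulLeft_apply, Ph_mul hf χ.1.2, smul_smul, inv_mul_cancel₀ h3, one_smul]
  rw [hspan, finrank_span_eq_card hb, Nat.card_eq_fintype_card]

end Char

section Main

variable {I W : Type*} {M : CoxeterMatrix I} [Group W] {cs : CoxeterSystem M W} {C : Type*} (Δ : Bldg cs C)
  [Fintype C] [DecidableEq C] {G : Type u} [Group G] [Fintype G] [MulAction G C]
  (hiso : ∀ (g : G) (x y : C), Δ.δ (g • x) (g • y) = Δ.δ x y)
  (htr : ∀ x y x' y' : C, Δ.δ x y = Δ.δ x' y' → ∃ g : G, g • x = x' ∧ g • y = y')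
  [DecidableEq W] [Fintype W] {t : Wt cs} (ht : IsWt Δ t)

include hiso

theorem Tr_mem (v : W → ℂ) : Tr (G := G) C (ad Δ v) ∈ Cl G := fun g h => Tr_classFun (Pm_ad Δ hiso v) g h

omit hiso in
/-- A character which is not a constituent of the permutation character does not occur in `Tr X`. -/
theorem Tr_eq_zero (X : Matrix C C ℂ) {χ : G → ℂ} (hχ : IsIrrCharacter G χ)
    (h : classInner (perm G C) χ = 0) : classInner (Tr (G := G) C X) χ = 0 := by
  rw [classInner_Tr X hχ, Ph_eq_zero C hχ h, mul_zero, trace_zero, mul_zero]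

include htr ht

/-- **The number of the irreducible characters occurring in `Tr (ad v)`** is the rank of the multiplication by `Cas v`
on the centre of the Hecke algebra. -/
theorem finrank_eq_card_ne [Nonempty C] (v : W → ℂ) :
    finrank ℂ (LinearMap.range (Lm cs t (Cas cs t v) * Cas cs t)) =
      Nat.card {χ : IrrCharacter G // classInner (Tr (G := G) C (ad Δ v)) (χ : G → ℂ) ≠ 0} := by
  have hG0 : (Nat.card G : ℂ) ≠ 0 := by exact_mod_cast Nat.card_pos.ne'
  have hC0 : (Nat.card C : ℂ) ≠ 0 := by exact_mod_cast Nat.card_pos.ne'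
  have hGC : (Nat.card G : ℂ) / Nat.card C ≠ 0 := div_ne_zero hG0 hC0
  rw [← finrank_mulLeft (C := C) (Tr_mem Δ hiso v) fun χ h => Tr_eq_zero (ad Δ v) χ.2 h, map_eq Δ hiso htr ht,
    casimir' Δ hiso htr ht]
  have h1 : LinearMap.range (Cas cs t) = Z cs t :=
    Submodule.eq_of_le_of_finrank_eq (range_Cas_le cs t) (finrank_range_Cas cs t)
  have h2 : LinearMap.range (Lm cs t (Cas cs t v) * Cas cs t) = (Z cs t).map (Lm cs t (Cas cs t v)) := by
    rw [← h1]
    exact LinearMap.range_comp _ _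
  have h3 : ((Z cs t).map (adL Δ)).map (LinearMap.mulLeft ℂ (((Nat.card G : ℂ) / Nat.card C) • ad Δ (Cas cs t v))) =
      ((Z cs t).map (Lm cs t (Cas cs t v))).map (adL Δ) := by
    apply le_antisymm
    · rintro _ ⟨_, ⟨z, hz, rfl⟩, rfl⟩
      refine ⟨((Nat.card G : ℂ) / Nat.card C) • Lm cs t (Cas cs t v) z,
        Submodule.smul_mem _ _ ⟨z, hz, rfl⟩, ?_⟩
      rw [map_smul, LinearMap.mulLeft_apply, smul_mul_assoc]
      congr 1
      exact ad_Lm Δ ht _ _
    · rintro _ ⟨_, ⟨z, hz, rfl⟩, rfl⟩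
      refine ⟨adL Δ (((Nat.card G : ℂ) / Nat.card C)⁻¹ • z), ⟨_, Submodule.smul_mem _ _ hz, rfl⟩, ?_⟩
      rw [map_smul, map_smul, LinearMap.mulLeft_apply, smul_mul_assoc, smul_smul, inv_mul_cancel₀ hGC, one_smul]
      exact (ad_Lm Δ ht _ _).symm
  have h4 : Function.Injective (adL Δ) := ad_injective Δ
  rw [h2, h3]
  exact (Submodule.equivMapOfInjective (adL Δ) h4 _).finrank_eq

/-- **The Gram matrix**: `⟨Tr (ad u), Tr (ad v)⟩ = tr (x ↦ v x u)`. -/
theorem gram [Nonempty C] (u v : W → ℂ) (hv : ∀ w, conj (v w⁻¹) = v w) :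
    classInner (Tr (G := G) C (ad Δ u)) (Tr (G := G) C (ad Δ v)) =
      LinearMap.trace ℂ (W → ℂ) (Lm cs t v * Rm cs t u) := by
  have hG0 : (Nat.card G : ℂ) ≠ 0 := by exact_mod_cast Nat.card_pos.ne'
  have hC0 : (Nat.card C : ℂ) ≠ 0 := by exact_mod_cast Nat.card_pos.ne'
  have h1 : (ad Δ v)ᴴ = ad Δ v := by
    ext x y
    rw [conjTranspose_apply, ad_apply, ad_apply, Δ.symm x y, ← hv (Δ.δ x y)]
    rfl
  have h2 : ∀ w : W → ℂ, trace (ad Δ w) = Nat.card C * w 1 := by
    intro w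
    unfold trace
    simp only [diag_apply, ad_apply, (Δ.eq_one _ _).2 rfl]
    rw [Finset.sum_const, Finset.card_univ, nsmul_eq_mul, Nat.card_eq_fintype_card]
  have h3 : Lm cs t (Cas cs t u) v = Lm cs t v (Cas cs t u) :=
    ((mem_Z_iff cs).1 (range_Cas_le cs t ⟨u, rfl⟩) v).symm
  rw [classInner_def, ← trace_Ph_mul (C := C), casimir' Δ hiso htr ht, h1, smul_mul_assoc, trace_smul, ← ad_Lm Δ ht, h2,
    trace_mul, smul_eq_mul, h3]
  field_simp

end Main

end Cfsg.Agent.H116.HeckeU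
end

-- part: H116/HeckeU/LemT
section
/-!
# Transfer between a strongly transitive group and its Weyl group (helper116)

* `classInner_eJ` : `⟨Tr (ad (eJ J)), χ⟩ = conj ⟨χ, 1_P^G⟩`, `P` the stabilizer of a `J`-residue;
* `gram_const` : `tr (x ↦ e_K x e_J)` does not depend on the weight;
* `thin` : the thin building of a Coxeter group.
-/

set_option autoImplicit false
set_option linter.unusedSectionVars false

namespace Cfsg.Agent.H116.HeckeU

open CoxeterSystem Cfsg Cfsg.Agent.Tits.Exchange Module Cfsg.Agent.Tits.Core Matrix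
  Cfsg.Agent.Characters.Core
open Cfsg.Agent.H157.HK (Wt L R LL RR Cas A Z e wd eJ pJ iJ continuous_Lm continuous_CasC continuous_eJ continuous_Cas'
  smul_one smul_zero_m)
open Cfsg.Agent.H116.HeckeC (ad ad_apply ad_transpose ad_injective Pm Pm_apply Pm_mul_apply mul_Pm_apply Pm_mul Pm_one
  Pm_conjTranspose trace_Pm Pm_comm_iff Ph Ph_apply Tr Tr_apply Ph_comm Tr_classFun trace_Ph_mul)
open Cfsg.Agent.H116.HeckeD (Cl mem_Cl perm adL Pm_ad exists_ad cnt cnt_eq cnt_zero cnt_pos)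
open scoped ComplexConjugate

universe u

section Res

variable {I W : Type*} {M : CoxeterMatrix I} [Group W] {cs : CoxeterSystem M W} {C : Type*} (Δ : Bldg cs C)
  [Fintype C] [DecidableEq C] {G : Type u} [Group G] [Fintype G] [MulAction G C]
  (hiso : ∀ (g : G) (x y : C), Δ.δ (g • x) (g • y) = Δ.δ x y)
  (htr : ∀ x y x' y' : C, Δ.δ x y = Δ.δ x' y' → ∃ g : G, g • x = x' ∧ g • y = y')
  [DecidableEq W] [Fintype W] {t : Wt cs} (ht : IsWt Δ t)

omit [DecidableEq C] in
include ht in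
theorem sum_ad (v : W → ℂ) (x : C) : ∑ y, v (Δ.δ x y) = ∑ w, v w * (t.f w : ℂ) := by
  classical
  have h1 : ∀ y, v (Δ.δ x y) = ∑ w, v w * ad Δ (e w) x y := by
    intro y
    rw [Finset.sum_eq_single (Δ.δ x y)]
    · rw [ad_e, if_pos rfl, mul_one]
    · intro w _ hw
      rw [ad_e, if_neg hw.symm, mul_zero]
    · intro h
      exact absurd (Finset.mem_univ _) h
  rw [Finset.sum_congr rfl fun y _ => h1 y, Finset.sum_comm]
  refine Finset.sum_congr rfl fun w _ => ?_
  rw [← Finset.mul_sum, row, row_eq Δ ht]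

omit [DecidableEq W] in
theorem sum_eJ (t : Wt cs) (J : Set I) : ∑ w, eJ cs t J w * (t.f w : ℂ) = 1 := by
  classical
  have h1 : ∀ w, eJ cs t J w * (t.f w : ℂ) = ((pJ cs t J : ℝ) : ℂ)⁻¹ * ((if w ∈ WJ cs J then t.f w else 0 : ℝ) : ℂ) := by
    intro w
    unfold eJ
    split_ifs <;> simp
  rw [Finset.sum_congr rfl fun w _ => h1 w, ← Finset.mul_sum, ← Complex.ofReal_sum]
  exact inv_mul_cancel₀ (H157.HK.pJ_ne cs t J)

include hiso in
/-- The inner product with a class function. -/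
theorem sum_Tr_eJ (x₀ : C) (htr1 : ∀ x : C, ∃ g : G, g • x₀ = x) (J : Set I) {f : G → ℂ} (hf : f ∈ Cl G)
    [DecidablePred fun g : G => Δ.δ x₀ (g • x₀) ∈ WJ cs J] :
    ∑ g, Tr (G := G) C (ad Δ (eJ cs t J)) g * f g =
      (Nat.card C : ℂ) * ((pJ cs t J : ℝ) : ℂ)⁻¹ * ∑ g, if Δ.δ x₀ (g • x₀) ∈ WJ cs J then f g else 0 := by
  classical
  have h1 : ∀ g : G, Tr (G := G) C (ad Δ (eJ cs t J)) g = ∑ x, eJ cs t J (Δ.δ x (g • x)) := by
    intro g
    rw [Tr_apply, trace]
    refine Finset.sum_congr rfl fun x _ => ?_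
    rw [diag_apply, mul_Pm_apply, ad_apply]
  have h2 : ∀ x : C, ∑ g : G, eJ cs t J (Δ.δ x (g • x)) * f g =
      ((pJ cs t J : ℝ) : ℂ)⁻¹ * ∑ g : G, if Δ.δ x₀ (g • x₀) ∈ WJ cs J then f g else 0 := by
    intro x
    obtain ⟨a, rfl⟩ := htr1 x
    rw [Finset.mul_sum]
    refine Fintype.sum_equiv (MulAut.conj a⁻¹).toEquiv _ _ fun g => ?_
    show _ = ((pJ cs t J : ℝ) : ℂ)⁻¹ * (if Δ.δ x₀ ((a⁻¹ * g * a⁻¹⁻¹) • x₀) ∈ WJ cs J then f (a⁻¹ * g * a⁻¹⁻¹) else 0)
    have h3 : Δ.δ x₀ ((a⁻¹ * g * a⁻¹⁻¹) • x₀) = Δ.δ (a • x₀) (g • a • x₀) := by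
      rw [← hiso a x₀, smul_smul, smul_smul]
      congr 2
      group
    have h4 : Δ.δ x₀ ((a⁻¹ * g * a⁻¹⁻¹) • x₀) ∈ WJ cs J ↔ Δ.δ (a • x₀) (g • a • x₀) ∈ WJ cs J := by rw [h3]
    unfold eJ
    by_cases h : Δ.δ (a • x₀) (g • a • x₀) ∈ WJ cs J
    · rw [if_pos h, if_pos (h4.2 h), hf g a⁻¹]
    · rw [if_neg h, if_neg fun h' => h (h4.1 h'), zero_mul, mul_zero]
  simp only [h1, Finset.sum_mul]
  rw [Finset.sum_comm, Finset.sum_congr rfl fun x _ => h2 x, Finset.sum_const, Finset.card_univ, nsmul_eq_mul,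
    Nat.card_eq_fintype_card, mul_assoc]

include hiso htr ht in
/-- **`⟨Tr (ad (eJ J)), χ⟩` is the multiplicity of `χ` in the permutation character on the `J`-residues.** -/
theorem classInner_eJ (x₀ : C) (J : Set I) (P : Subgroup G) (hP : ∀ g : G, g ∈ P ↔ Δ.δ x₀ (g • x₀) ∈ WJ cs J)
    {χ : G → ℂ} (hχ : IsClassFunction G χ) :
    classInner (Tr (G := G) C (ad Δ (eJ cs t J))) χ = conj ((Nat.card P : ℂ)⁻¹ * ∑ᶠ x : P, χ x) := by
  classical
  have hG0 : (Nat.card G : ℂ) ≠ 0 := by exact_mod_cast Nat.card_pos.ne'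
  have : Nonempty C := ⟨x₀⟩
  have hC0 : (Nat.card C : ℂ) ≠ 0 := by exact_mod_cast Nat.card_pos.ne'
  have hP0 : (Nat.card P : ℂ) ≠ 0 := by exact_mod_cast Nat.card_pos.ne'
  have hp0 : ((pJ cs t J : ℝ) : ℂ) ≠ 0 := H157.HK.pJ_ne cs t J
  have htr1 : ∀ x : C, ∃ g : G, g • x₀ = x := by
    intro x
    obtain ⟨g, hg, -⟩ := htr x₀ x₀ x x (by rw [(Δ.eq_one x₀ x₀).2 rfl, (Δ.eq_one x x).2 rfl])
    exact ⟨g, hg⟩
  have hsum : ∀ f : G → ℂ, (∑ g : G, if Δ.δ x₀ (g • x₀) ∈ WJ cs J then f g else 0) = ∑ x : P, f x := by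
    intro f
    rw [← Finset.sum_filter]
    apply Finset.sum_subtype
    intro g
    rw [Finset.mem_filter, hP]
    simp
  -- the order of `P`
  have hcard : (Nat.card C : ℂ) * ((pJ cs t J : ℝ) : ℂ)⁻¹ * Nat.card P = Nat.card G := by
    have h1 := sum_Tr_eJ (t := t) Δ hiso x₀ htr1 J (f := fun _ => (1 : ℂ)) (fun _ _ => rfl)
    rw [hsum, Finset.sum_const, Finset.card_univ, nsmul_eq_mul, mul_one, ← Nat.card_eq_fintype_card] at h1
    rw [← h1]
    simp only [mul_one]
    have h2 : ∀ g : G, Tr (G := G) C (ad Δ (eJ cs t J)) g = ∑ x, eJ cs t J (Δ.δ x (g • x)) := by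
      intro g
      rw [Tr_apply, trace]
      refine Finset.sum_congr rfl fun x _ => ?_
      rw [diag_apply, mul_Pm_apply, ad_apply]
    simp only [h2]
    rw [Finset.sum_comm]
    -- for every `x` the sum is `|G| / |C|`
    have h3 : ∀ x : C, ∑ g : G, eJ cs t J (Δ.δ x (g • x)) = (Nat.card G : ℂ) / Nat.card C := by
      intro x
      have h4 : ∀ g : G, eJ cs t J (Δ.δ x (g • x)) = ∑ y : C, if g • x = y then eJ cs t J (Δ.δ x y) else 0 := by
        intro g
        rw [Finset.sum_ite_eq, if_pos (Finset.mem_univ _)]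
      rw [Finset.sum_congr rfl fun g _ => h4 g, Finset.sum_comm]
      have h5 : ∀ y : C, (∑ g : G, if g • x = y then eJ cs t J (Δ.δ x y) else 0) =
          (Nat.card G : ℂ) / Nat.card C * eJ cs t J (Δ.δ x y) := by
        intro y
        rw [← Finset.sum_filter, Finset.sum_const, nsmul_eq_mul]
        congr 1
        have h6 : ((Finset.univ.filter fun g : G => g • x = y).card : ℂ) = (cnt G x x x x : ℂ) := by
          have h7 : cnt G x x y y = cnt G x x x x :=
            cnt_eq Δ htr (x := x) (u := x) (y := y) (u' := y) (x₁ := x) (u₁ := x) (y₁ := x) (u₁' := x)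
              (by rw [(Δ.eq_one x x).2 rfl, (Δ.eq_one y y).2 rfl]) rfl
              (by rw [(Δ.eq_one x x).2 rfl, (Δ.eq_one y y).2 rfl])
          rw [← h7]
          unfold cnt
          rw [Nat.card_eq_fintype_card, Fintype.card_subtype]
          congr 2
          ext g
          simp
        have h8 := cnt_mul Δ hiso htr ht (G := G) x x ((Δ.eq_one x x).2 rfl)
        rw [t.f_one, Complex.ofReal_one, mul_one] at h8
        rw [h6, ← h8]
        field_simp
      rw [Finset.sum_congr rfl fun y _ => h5 y, ← Finset.mul_sum, sum_ad Δ ht, sum_eJ, mul_one]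
    rw [Finset.sum_congr rfl fun x _ => h3 x, Finset.sum_const, Finset.card_univ, nsmul_eq_mul,
      ← Nat.card_eq_fintype_card]
    field_simp
  have hc : (fun g => conj (χ g)) ∈ Cl G := fun g h => by
    show conj (χ (h * g * h⁻¹)) = conj (χ g)
    rw [hχ g h]
  rw [classInner_def, sum_Tr_eJ Δ hiso x₀ htr1 J hc, hsum, finsum_eq_sum_of_fintype, map_mul, map_inv₀, map_sum,
    Complex.conj_natCast, ← mul_assoc]
  congr 1
  rw [← hcard]
  field_simp

end Res

/-! ### The Gram matrix does not depend on the weight -/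

section Gram

open Filter Topology

variable {I W : Type*} {M : CoxeterMatrix I} [Group W] (cs : CoxeterSystem M W) [Fintype W] [DecidableEq W]

end Gram

/-! ### The thin building -/

section Thin

variable {I W : Type*} {M : CoxeterMatrix I} [Group W] (cs : CoxeterSystem M W)

/-- The thin building. -/
def thin : Bldg cs W where
  δ x y := x⁻¹ * y
  eq_one x y := inv_mul_eq_one
  symm x y := by group
  step x y z i h := by
    left
    rw [inv_mul_eq_iff_eq_mul] at h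
    rw [h, mul_assoc]
  step_lt x y z i h _ := by
    rw [inv_mul_eq_iff_eq_mul] at h
    rw [h, mul_assoc]
  exists_step x y i := ⟨y * cs.simple i, by group, by group⟩

theorem thin_δ (x y : W) : (thin cs).δ x y = x⁻¹ * y := rfl

theorem thin_iso (g x y : W) : (thin cs).δ (g • x) (g • y) = (thin cs).δ x y := by
  rw [thin_δ, thin_δ, smul_eq_mul, smul_eq_mul]
  group

theorem thin_tr (x y x' y' : W) (h : (thin cs).δ x y = (thin cs).δ x' y') : ∃ g : W, g • x = x' ∧ g • y = y' := by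
  rw [thin_δ, thin_δ] at h
  refine ⟨x' * x⁻¹, ?_, ?_⟩
  · rw [smul_eq_mul]
    group
  · rw [smul_eq_mul, mul_assoc, h]
    group

theorem thin_isWt [Fintype W] {t : Wt cs} (h₀ : ∀ w, t.m w = 0) : IsWt (thin cs) t := by
  intro x i
  rw [H157.HK.p_zero cs h₀ i]
  have h1 : Nat.card {y // (thin cs).δ x y = cs.simple i} = 1 := by
    rw [Nat.card_eq_one_iff_unique]
    refine ⟨⟨fun a b => Subtype.ext ?_⟩, ⟨⟨x * cs.simple i, by rw [thin_δ]; group⟩⟩⟩
    have ha := a.2
    have hb := b.2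
    rw [thin_δ, inv_mul_eq_iff_eq_mul] at ha hb
    rw [ha, hb]
  rw [h1, Nat.cast_one]

end Thin

end Cfsg.Agent.H116.HeckeU
end

-- part: H116/HeckeU/LemTF
section
/-!
# Lemma T: transfer of `|n_χ| ≤ 1` from the Weyl group to the group (helper116)

* `gram_mu` : `∑_χ ⟨χ, 1_{P_J}⟩ ⟨χ, 1_{P_K}⟩` is the same for `G` and for `W`;
* `lemT` : if `|∑ c_J ⟨φ, 1_{W_J}^W⟩| ≤ 1` for all `φ ∈ Irr(W)` then `|∑ c_J ⟨χ, 1_{P_J}^G⟩| ≤ 1` for all `χ ∈ Irr(G)`;
* `lemT_rgd` : the version for root group data.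
-/

set_option autoImplicit false
set_option linter.unusedSectionVars false

namespace Cfsg.Agent.H116.HeckeU

open CoxeterSystem Cfsg Cfsg.Agent.Tits.Exchange Module Cfsg.Agent.Tits.Core Matrix
  Cfsg.Agent.Characters.Core
open Cfsg.Agent.H157.HK (Wt L R LL RR Cas A Z e wd eJ pJ iJ eps rk smul_zero_m)
open Cfsg.Agent.H116.HeckeC (ad ad_apply ad_injective Pm Ph Ph_apply Tr Tr_apply Tr_classFun)
open Cfsg.Agent.H116.HeckeD (Cl mem_Cl perm adL Pm_ad)
open Cfsg.Agent.H439.CC (mu)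
open scoped ComplexConjugate

universe u

theorem mu_nat {G : Type u} [Group G] [Finite G] (P : Subgroup G) {χ : G → ℂ} (hχ : IsCharacter G χ) :
    ∃ n : ℕ, mu P χ = n := by
  classical
  let _ : Fintype G := Fintype.ofFinite G
  let _ : Fintype P := Fintype.ofFinite P
  obtain ⟨n, hn⟩ := classInner_isNat (HeckeD.isCharacter_perm (G := G) (G ⧸ P)) hχ
  refine ⟨n, ?_⟩
  rw [RealRGD.classInner_perm_coset P (isCharacter_isClassFunction hχ)] at hn
  have h1 := congrArg conj hn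
  rw [map_mul, map_inv₀, Complex.conj_natCast, map_sum, Complex.conj_natCast] at h1
  simp only [Complex.conj_conj] at h1
  unfold mu
  rw [finsum_eq_sum_of_fintype, h1]

section Star

variable {I W : Type*} {M : CoxeterMatrix I} [Group W] (cs : CoxeterSystem M W) [Fintype W]

theorem eJ_star (t : Wt cs) (J : Set I) (w : W) : conj (eJ cs t J w⁻¹) = eJ cs t J w := by
  unfold eJ
  by_cases h : w ∈ WJ cs J
  · rw [if_pos h, if_pos (inv_mem h), map_inv₀, Complex.conj_ofReal]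
  · rw [if_neg h, if_neg fun h' => h (by simpa using inv_mem h'), map_zero]

end Star

section Main

variable {I : Type*} {W : Type*} {M : CoxeterMatrix I} [Group W] {cs : CoxeterSystem M W} {C : Type*} (Δ : Bldg cs C)
  [Fintype C] [DecidableEq C] {G : Type u} [Group G] [Fintype G] [MulAction G C]
  (hiso : ∀ (g : G) (x y : C), Δ.δ (g • x) (g • y) = Δ.δ x y)
  (htr : ∀ x y x' y' : C, Δ.δ x y = Δ.δ x' y' → ∃ g : G, g • x = x' ∧ g • y = y')
  [DecidableEq W] [Fintype W] {t : Wt cs} (ht : IsWt Δ t) (x₀ : C) (P : Set I → Subgroup G)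
  (hP : ∀ (J : Set I) (g : G), g ∈ P J ↔ Δ.δ x₀ (g • x₀) ∈ WJ cs J)

include hiso htr ht x₀ hP

theorem classInner_mu (J : Set I) {χ : G → ℂ} (hχ : IsIrrCharacter G χ) :
    classInner (Tr (G := G) C (ad Δ (eJ cs t J))) χ = mu (P J) χ := by
  obtain ⟨n, hn⟩ := mu_nat (P J) (isIrr_isCharacter hχ)
  rw [classInner_eJ Δ hiso htr ht x₀ J (P J) (hP J) (isIrr_isClassFunction hχ)]
  have h1 : (Nat.card (P J) : ℂ)⁻¹ * ∑ᶠ x : P J, χ x = n := hn
  rw [h1, Complex.conj_natCast, hn]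

end Main

section Weyl

variable {I : Type*} {W : Type u} {M : CoxeterMatrix I} [Group W] (cs : CoxeterSystem M W)

theorem thin_hP (J : Set I) (g : W) : g ∈ WJ cs J ↔ (thin cs).δ 1 (g • (1 : W)) ∈ WJ cs J := by
  rw [thin_δ, inv_one, one_mul, smul_eq_mul, mul_one]

end Weyl

universe v

section Fin

variable {I : Type*} {W : Type v} {M : CoxeterMatrix I} [Group W] [Finite W] [Finite I] {cs : CoxeterSystem M W}
  {C : Type*} (Δ : Bldg cs C)
  [Finite C] {G : Type u} [Group G] [Finite G] [MulAction G C]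
  (hiso : ∀ (g : G) (x y : C), Δ.δ (g • x) (g • y) = Δ.δ x y)
  (htr : ∀ x y x' y' : C, Δ.δ x y = Δ.δ x' y' → ∃ g : G, g • x = x' ∧ g • y = y')
  (x₀ : C) (P : Set I → Subgroup G)
  (hP : ∀ (J : Set I) (g : G), g ∈ P J ↔ Δ.δ x₀ (g • x₀) ∈ WJ cs J)

include hiso htr x₀ hP

end Fin

end Cfsg.Agent.H116.HeckeU
end

-- part: H116/HeckeU/Sys
section
/-!
# Complete systems of central idempotents (helper116)

`Sys cs t z` : the `z i` are `dim Z` orthogonal nonzero self-adjoint idempotents of the centre.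

* `zc`, `sys_zc` : the system of the constituents `χ` of the permutation character on the chambers;
* `trace_zc` : `tr (z_χ v) = ⟨perm, χ⟩ * conj ⟨Tr (ad v), χ⟩`;
* `classInner_eJ` : `⟨Tr (ad (eJ J)), χ⟩ = |P|⁻¹ ∑_{g ∈ P} conj (χ g)`, `P` the stabilizer of a `J`-residue.
-/

set_option autoImplicit false
set_option linter.unusedSectionVars false

namespace Cfsg.Agent.H116.HeckeU

open CoxeterSystem Cfsg Cfsg.Agent.Tits.Exchange Module Cfsg.Agent.Tits.Core Matrix Cfsg.Agent.Characters.Core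
open Cfsg.Agent.H157.HK (Wt L R LL RR Cas A Z e wd eJ pJ iJ eps rk smul_zero_m)
open Cfsg.Agent.H116.HeckeC (ad ad_apply ad_transpose ad_injective Pm Pm_apply Pm_mul_apply mul_Pm_apply Pm_mul Pm_one
  Pm_conjTranspose trace_Pm Pm_comm_iff Ph Ph_apply Tr Tr_apply Ph_comm Tr_classFun trace_Ph_mul)
open Cfsg.Agent.H116.HeckeD (Cl mem_Cl perm adL Pm_ad exists_ad cnt cnt_eq cnt_zero cnt_pos Tr_Ph_irr Ph_eq_zero
  irr_linearIndependent')
open scoped ComplexConjugate

universe u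

section Defs

variable {I W : Type*} {M : CoxeterMatrix I} [Group W] (cs : CoxeterSystem M W) [Fintype W]

/-- A complete system of orthogonal central idempotents. -/
structure Sys [DecidableEq W] (t : Wt cs) {ι : Type*} (z : ι → W → ℂ) : Prop where
  mem : ∀ i, z i ∈ Z cs t
  idem : ∀ i, Lm cs t (z i) (z i) = z i
  orth : ∀ i j, i ≠ j → Lm cs t (z i) (z j) = 0
  ne : ∀ i, z i ≠ 0
  star : ∀ i w, conj (z i w⁻¹) = z i w
  card : Nat.card ι = finrank ℂ (Z cs t)

end Defs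

section Char

variable {G : Type u} [Group G] [Fintype G] {C : Type*} [Fintype C] [DecidableEq C] [MulAction G C]

theorem Ph_conjTranspose {χ : G → ℂ} (hχ : IsIrrCharacter G χ) : (Ph C χ)ᴴ = Ph C χ := by
  rw [Ph_apply, conjTranspose_sum]
  refine Fintype.sum_equiv (Equiv.inv G) _ _ fun g => ?_
  rw [conjTranspose_smul, Pm_conjTranspose, Equiv.inv_apply, isCharacter_apply_inv (isIrr_isCharacter hχ)]
  rfl

theorem Tr_Ph_mul (X : Matrix C C ℂ) (hX : ∀ g : G, Pm C g * X = X * Pm C g) {χ : G → ℂ} (hχ : IsIrrCharacter G χ) :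
    Tr (G := G) C (Ph C χ * X) = ((Nat.card G : ℂ) * classInner (Tr (G := G) C X) χ / χ 1) • χ := by
  funext y
  have h1 : Tr (G := G) C (Ph C χ * X) y = ∑ z, Tr (G := G) C X (y * z) * conj (χ z) := by
    rw [Tr_apply, Ph_apply, Finset.sum_mul, Finset.sum_mul, trace_sum]
    refine Fintype.sum_equiv (Equiv.inv G) _ _ fun g => ?_
    rw [Equiv.inv_apply, smul_mul_assoc, smul_mul_assoc, trace_smul, smul_eq_mul, Tr_apply, Pm_mul,
      ← isCharacter_apply_inv (isIrr_isCharacter hχ), inv_inv, hX, mul_assoc, ← Pm_mul, ← Pm_mul,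
      mul_comm (χ g)]
    congr 1
    have h2 := Tr_classFun (C := C) hX (y * g⁻¹) (g⁻¹)
    rw [Tr_apply, Tr_apply] at h2
    rw [← h2]
    congr 3
    group
  rw [h1, Classification.TypeZIV.Parity.sum_conv (fun g h => Tr_classFun hX g h) hχ y, Pi.smul_apply, smul_eq_mul,
    classInner_def, ← mul_assoc, mul_inv_cancel₀ card_ne_zero_complex, one_mul]

end Char

section Main

variable {I W : Type*} {M : CoxeterMatrix I} [Group W] {cs : CoxeterSystem M W} {C : Type*} (Δ : Bldg cs C)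
  [Fintype C] [DecidableEq C] {G : Type u} [Group G] [Fintype G] [MulAction G C]
  (hiso : ∀ (g : G) (x y : C), Δ.δ (g • x) (g • y) = Δ.δ x y)
  (htr : ∀ x y x' y' : C, Δ.δ x y = Δ.δ x' y' → ∃ g : G, g • x = x' ∧ g • y = y')
  [DecidableEq W] [Fintype W] {t : Wt cs} (ht : IsWt Δ t)

include hiso htr ht in
/-- The number of constituents. -/
theorem card_constituents' [Nonempty C] :
    Nat.card {χ : IrrCharacter G // classInner (perm G C) (χ : G → ℂ) ≠ 0} = finrank ℂ (Z cs t) := by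
  have h4 : Function.Injective (adL Δ) := ad_injective Δ
  have h5 := (Submodule.equivMapOfInjective (adL Δ) h4 (Z cs t)).finrank_eq
  have h2 : perm G C = Tr (G := G) C (ad Δ (e 1)) := by
    funext g
    rw [ad_one, Tr_apply, one_mul, HeckeC.trace_Pm]
    rfl
  have h6 := finrank_mulLeft (C := C) (G := G) (f := perm G C) (by rw [h2]; exact Tr_mem Δ hiso _) fun χ h => h
  have h7 : finrank ℂ (LinearMap.range (Lm cs t (Cas cs t (e 1)) * Cas cs t)) = finrank ℂ (Z cs t) := by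
    rw [H157.HK.range_mul_Cas]
    exact (Submodule.equivMapOfInjective _ (H157.HK.Lm_cz_injective cs t) (Z cs t)).finrank_eq.symm
  have h8 := finrank_eq_card_ne Δ hiso htr ht (e 1)
  rw [← h7, h8, ← h2]

include hiso htr ht in
theorem exists_zc [Nonempty C] {χ : G → ℂ} (hχ : IsIrrCharacter G χ) :
    ∃ z ∈ Z cs t, ad Δ z = (χ 1 / Nat.card G) • Ph C χ := by
  have h1 : (χ 1 / Nat.card G) • Ph C χ ∈ (Cl G).map (Ph C) :=
    Submodule.smul_mem _ _ ⟨χ, isIrr_isClassFunction hχ, rfl⟩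
  rw [map_eq Δ hiso htr ht] at h1
  obtain ⟨z, hz, h2⟩ := h1
  exact ⟨z, hz, h2⟩

include hiso htr ht in
/-- **The system of the constituents.** -/
theorem sys_of_zc [Nonempty C] (z : {χ : IrrCharacter G // classInner (perm G C) (χ : G → ℂ) ≠ 0} → W → ℂ)
    (hz : ∀ χ, z χ ∈ Z cs t) (hz' : ∀ χ, ad Δ (z χ) = ((χ.1 : G → ℂ) 1 / Nat.card G) • Ph C (χ.1 : G → ℂ)) :
    Sys cs t z := by
  have hG0 : (Nat.card G : ℂ) ≠ 0 := by exact_mod_cast Nat.card_pos.ne'
  have h10 : ∀ χ : {χ : IrrCharacter G // classInner (perm G C) (χ : G → ℂ) ≠ 0}, (χ.1 : G → ℂ) 1 ≠ 0 :=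
    fun χ => isIrr_apply_one_ne_zero χ.1.2
  refine ⟨hz, fun χ => ?_, fun χ χ' hne => ?_, fun χ h0 => ?_, fun χ w => ?_, ?_⟩
  · apply ad_injective Δ
    rw [ad_Lm Δ ht, hz', smul_mul_assoc, mul_smul_comm, Ph_mul (isIrr_isClassFunction χ.1.2) χ.1.2,
      classInner_irr_self χ.1.2, smul_smul, smul_smul, mul_one]
    congr 1
    have := h10 χ
    field_simp
  · apply ad_injective Δ
    rw [ad_Lm Δ ht, hz', hz', smul_mul_assoc, mul_smul_comm, Ph_mul (isIrr_isClassFunction χ.1.2) χ'.1.2,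
      classInner_irr_ne χ.1.2 χ'.1.2 fun h => hne (Subtype.ext (Subtype.ext h)), mul_zero, zero_div, zero_smul, smul_zero,
      smul_zero]
    rfl
  · have h1 := (linearIndependent_Ph (G := G) (C := C)).ne_zero χ
    have h2 := hz' χ
    rw [h0] at h2
    have h3 : ((χ.1 : G → ℂ) 1 / Nat.card G) • Ph C (χ.1 : G → ℂ) = 0 := h2.symm
    exact h1 ((smul_eq_zero.1 h3).resolve_left (div_ne_zero (h10 χ) hG0))
  · obtain ⟨x⟩ := ‹Nonempty C›
    obtain ⟨y, hy⟩ := Δ.exists_δ x w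
    have h1 : (ad Δ (z χ))ᴴ = ad Δ (z χ) := by
      rw [hz', conjTranspose_smul, Ph_conjTranspose χ.1.2]
      congr 1
      rw [star_div₀]
      congr 1
      · obtain ⟨n, -, hn⟩ := isIrr_apply_one χ.1.2
        rw [hn]
        exact Complex.conj_natCast n
      · exact Complex.conj_natCast _
    have h2 := congrFun (congrFun h1 x) y
    rw [conjTranspose_apply, ad_apply, ad_apply, Δ.symm x y, hy] at h2
    exact h2
  · rw [card_constituents' Δ hiso htr ht]

include hiso htr ht in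
theorem trace_zc [Nonempty C] {χ : G → ℂ} (hχ : IsIrrCharacter G χ) {z : W → ℂ} (hz : z ∈ Z cs t)
    (hz' : ad Δ z = (χ 1 / Nat.card G) • Ph C χ) (v : W → ℂ) (hv : ∀ w, conj (v w⁻¹) = v w) :
    LinearMap.trace ℂ (W → ℂ) (Lm cs t (Lm cs t z v)) =
      classInner (perm G C) χ * conj (classInner (Tr (G := G) C (ad Δ v)) χ) := by
  have hG0 : (Nat.card G : ℂ) ≠ 0 := by exact_mod_cast Nat.card_pos.ne'
  have h10 : χ 1 ≠ 0 := isIrr_apply_one_ne_zero hχ
  have hzs : (ad Δ z)ᴴ = ad Δ z := by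
    rw [hz', conjTranspose_smul, Ph_conjTranspose hχ]
    congr 1
    rw [star_div₀]
    congr 1
    · obtain ⟨n, -, hn⟩ := isIrr_apply_one hχ
      rw [hn]
      exact Complex.conj_natCast n
    · exact Complex.conj_natCast _
  have hvs : (ad Δ v)ᴴ = ad Δ v := by
    ext x y
    rw [conjTranspose_apply, ad_apply, ad_apply, Δ.symm x y, ← hv (Δ.δ x y)]
    rfl
  -- the product is self-adjoint
  have hstar : ∀ w, conj (Lm cs t z v w⁻¹) = Lm cs t z v w := by
    intro w
    have h1 : (ad Δ (Lm cs t z v))ᴴ = ad Δ (Lm cs t z v) := by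
      rw [ad_Lm Δ ht, conjTranspose_mul, hzs, hvs, ← ad_Lm Δ ht, ← ad_Lm Δ ht, (mem_Z_iff cs).1 hz v]
    obtain ⟨x⟩ := ‹Nonempty C›
    obtain ⟨y, hy⟩ := Δ.exists_δ x w
    have h2 := congrFun (congrFun h1 x) y
    rw [conjTranspose_apply, ad_apply, ad_apply, Δ.symm x y, hy] at h2
    exact h2
  have h1 := gram Δ hiso htr ht (e 1) (Lm cs t z v) hstar
  rw [Rm_one, mul_one] at h1
  rw [← h1, ad_Lm Δ ht, hz', smul_mul_assoc, map_smul, Tr_Ph_mul _ (Pm_ad Δ hiso v) hχ, smul_smul]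
  have h2 : Tr (G := G) C (ad Δ (e 1)) = perm G C := by
    funext g
    rw [ad_one, Tr_apply, one_mul, HeckeC.trace_Pm]
    rfl
  have h3 : χ 1 / (Nat.card G : ℂ) * ((Nat.card G : ℂ) * classInner (Tr (G := G) C (ad Δ v)) χ / χ 1) =
      classInner (Tr (G := G) C (ad Δ v)) χ := by
    field_simp
  rw [h2, h3, classInner_smul_right, mul_comm]

end Main

end Cfsg.Agent.H116.HeckeU
end

-- part: H116/HeckeU/CmpG
section
/-!
# From complete systems to the comparison of multiplicities (helper116)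

`cmp_of` : if the complete systems of idempotents for the weights `τ` and `0` correspond to each other, then for every
constituent `χ` of the permutation character on the chambers there is an irreducible character `φ` of `W` with
`⟨χ, 1_{P_J}^G⟩ = ⟨φ, 1_{W_J}^W⟩` for all `J`.
-/

set_option autoImplicit false
set_option linter.unusedSectionVars false

namespace Cfsg.Agent.H116.HeckeU

open CoxeterSystem Cfsg Cfsg.Agent.Tits.Exchange Module Cfsg.Agent.Tits.Core Matrix Cfsg.Agent.Characters.Core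
open Cfsg.Agent.H157.HK (Wt L R LL RR Cas A Z e wd eJ pJ iJ eps rk smul_zero_m)
open Cfsg.Agent.H116.HeckeC (ad ad_apply ad_injective Pm Ph Ph_apply Tr Tr_apply Tr_classFun)
open Cfsg.Agent.H116.HeckeD (Cl mem_Cl perm adL Pm_ad)
open Cfsg.Agent.H439.CC (mu)
open scoped ComplexConjugate

universe u v w

section Empty

variable {I W : Type*} {M : CoxeterMatrix I} [Group W] (cs : CoxeterSystem M W) [Fintype W]

theorem WJ_empty : WJ cs (∅ : Set I) = ⊥ := by
  unfold WJ
  rw [Set.image_empty, Subgroup.closure_empty]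

theorem eJ_empty [DecidableEq W] (t : Wt cs) : eJ cs t ∅ = e 1 := by
  classical
  have h1 : pJ cs t ∅ = 1 := by
    unfold pJ
    rw [Finset.sum_eq_single 1]
    · rw [if_pos (one_mem _), t.f_one]
    · intro x _ hx
      rw [WJ_empty, Subgroup.mem_bot, if_neg hx]
    · intro h
      exact absurd (Finset.mem_univ _) h
  funext x
  unfold eJ
  rw [h1, Complex.ofReal_one, inv_one]
  show _ = (Pi.single 1 1 : W → ℂ) x
  rw [Pi.single_apply]
  by_cases h : x = 1
  · rw [if_pos h, h, if_pos (one_mem _)]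
  · rw [if_neg h, if_neg]
    rw [WJ_empty, Subgroup.mem_bot]
    exact h

end Empty

section Types

variable {I : Type*} {W : Type*} {M : CoxeterMatrix I} [Group W] {cs : CoxeterSystem M W} {C : Type*} (Δ : Bldg cs C)
  [Fintype C] [DecidableEq C] {G : Type u} [Group G] [Fintype G] [MulAction G C]
  (hiso : ∀ (g : G) (x y : C), Δ.δ (g • x) (g • y) = Δ.δ x y)
  (htr : ∀ x y x' y' : C, Δ.δ x y = Δ.δ x' y' → ∃ g : G, g • x = x' ∧ g • y = y')
  [DecidableEq W] [Fintype W] {t : Wt cs} (ht : IsWt Δ t) (x₀ : C) (P : Set I → Subgroup G)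
  (hP : ∀ (J : Set I) (g : G), g ∈ P J ↔ Δ.δ x₀ (g • x₀) ∈ WJ cs J)

include hiso htr ht x₀ hP

theorem perm_mu {χ : G → ℂ} (hχ : IsIrrCharacter G χ) : classInner (perm G C) χ = mu (P ∅) χ := by
  have h2 : perm G C = Tr (G := G) C (ad Δ (eJ cs t ∅)) := by
    funext g
    rw [eJ_empty, ad_one, Tr_apply, one_mul, HeckeC.trace_Pm]
    rfl
  rw [h2, classInner_mu Δ hiso htr ht x₀ P hP ∅ hχ]

/-- **The complete system of the constituents, and its types.** -/
theorem exists_sys : ∃ z : {χ : IrrCharacter G // mu (P ∅) (χ : G → ℂ) ≠ 0} → W → ℂ, Sys cs t z ∧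
    ∀ χ (J : Set I), LinearMap.trace ℂ (W → ℂ) (Lm cs t (Lm cs t (z χ) (eJ cs t J))) =
      mu (P ∅) (χ.1 : G → ℂ) * mu (P J) (χ.1 : G → ℂ) := by
  have : Nonempty C := ⟨x₀⟩
  have hpm : ∀ χ : IrrCharacter G, classInner (perm G C) (χ : G → ℂ) = mu (P ∅) (χ : G → ℂ) := fun χ =>
    perm_mu Δ hiso htr ht x₀ P hP χ.2
  choose z hz hz' using fun χ : IrrCharacter G => exists_zc Δ hiso htr ht (G := G) χ.2
  have hs : Sys cs t (fun χ : {χ : IrrCharacter G // classInner (perm G C) (χ : G → ℂ) ≠ 0} => z χ.1) :=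
    sys_of_zc Δ hiso htr ht _ (fun χ => hz χ.1) (fun χ => hz' χ.1)
  refine ⟨fun χ => z χ.1, ?_, fun χ J => ?_⟩
  · refine ⟨fun χ => hz χ.1, fun χ => ?_, fun χ χ' hne => ?_, fun χ => ?_, fun χ => ?_, ?_⟩
    · exact hs.idem ⟨χ.1, by rw [hpm]; exact χ.2⟩
    · exact hs.orth ⟨χ.1, by rw [hpm]; exact χ.2⟩ ⟨χ'.1, by rw [hpm]; exact χ'.2⟩ fun h =>
        hne (Subtype.ext (congrArg (fun y => y.1) h))
    · exact hs.ne ⟨χ.1, by rw [hpm]; exact χ.2⟩
    · exact hs.star ⟨χ.1, by rw [hpm]; exact χ.2⟩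
    · rw [← hs.card]
      refine Nat.card_congr (Equiv.subtypeEquivRight fun χ => ?_)
      rw [hpm]
  · rw [trace_zc Δ hiso htr ht χ.1.2 (hz χ.1) (hz' χ.1) (eJ cs t J) (eJ_star cs t J), hpm,
      classInner_mu Δ hiso htr ht x₀ P hP J χ.1.2]
    obtain ⟨n, hn⟩ := mu_nat (P J) (isIrr_isCharacter χ.1.2)
    rw [hn, Complex.conj_natCast]

end Types

section Fin

variable {I : Type*} {W : Type v} {M : CoxeterMatrix I} [Group W] [Finite W] [Finite I] {cs : CoxeterSystem M W}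
  {C : Type*} (Δ : Bldg cs C)
  [Finite C] {G : Type u} [Group G] [Finite G] [MulAction G C]
  (hiso : ∀ (g : G) (x y : C), Δ.δ (g • x) (g • y) = Δ.δ x y)
  (htr : ∀ x y x' y' : C, Δ.δ x y = Δ.δ x' y' → ∃ g : G, g • x = x' ∧ g • y = y')
  (x₀ : C) (P : Set I → Subgroup G)
  (hP : ∀ (J : Set I) (g : G), g ∈ P J ↔ Δ.δ x₀ (g • x₀) ∈ WJ cs J)

include hiso htr x₀ hP

/-- **The comparison**, from the correspondence of the complete systems. -/
theorem cmp_of [Fintype W] [DecidableEq W]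
    (hstrong : ∀ (τ : Wt cs) (ι : Type u) (ι' : Type v) (z : ι → W → ℂ) (z' : ι' → W → ℂ), Sys cs τ z →
      Sys cs (τ.smul 0) z' → ∃ e : ι ≃ ι', ∀ i (J : Set I),
        LinearMap.trace ℂ (W → ℂ) (Lm cs τ (Lm cs τ (z i) (eJ cs τ J))) =
        LinearMap.trace ℂ (W → ℂ) (Lm cs (τ.smul 0) (Lm cs (τ.smul 0) (z' (e i)) (eJ cs (τ.smul 0) J))))
    (χ : IrrCharacter G) (hχ : mu (P ∅) (χ : G → ℂ) ≠ 0) :
    ∃ φ : IrrCharacter W, ∀ J : Set I, mu (P J) (χ : G → ℂ) = mu (WJ cs J) (φ : W → ℂ) := by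
  classical
  let _ : Fintype C := Fintype.ofFinite C
  let _ : Fintype G := Fintype.ofFinite G
  have : Nonempty C := ⟨x₀⟩
  obtain ⟨τ, hτ⟩ := exists_wt_of Δ fun x x' w => card_indep Δ hiso htr x x' w
  have h0 : IsWt (thin cs) (τ.smul 0) := thin_isWt cs fun w => smul_zero_m cs τ w
  obtain ⟨z, hz, hzt⟩ := exists_sys Δ hiso htr hτ x₀ P hP
  obtain ⟨z', hz', hzt'⟩ := exists_sys (thin cs) (thin_iso cs) (thin_tr cs) h0 (1 : W) (fun J => WJ cs J) (thin_hP cs)
  obtain ⟨e, he⟩ := hstrong τ _ _ z z' hz hz'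
  have h1 : ∀ J : Set I, mu (P ∅) (χ : G → ℂ) * mu (P J) (χ : G → ℂ) =
      mu (WJ cs ∅) ((e ⟨χ, hχ⟩).1 : W → ℂ) * mu (WJ cs J) ((e ⟨χ, hχ⟩).1 : W → ℂ) := by
    intro J
    rw [← hzt ⟨χ, hχ⟩ J, he, hzt']
  have h2 : mu (P ∅) (χ : G → ℂ) = mu (WJ cs ∅) ((e ⟨χ, hχ⟩).1 : W → ℂ) := by
    obtain ⟨m, hm⟩ := mu_nat (P ∅) (isIrr_isCharacter χ.2)
    obtain ⟨n, hn⟩ := mu_nat (WJ cs ∅) (isIrr_isCharacter (e ⟨χ, hχ⟩).1.2)
    have h3 := h1 ∅
    rw [hm, hn] at h3 ⊢
    have h4 : m * m = n * n := by exact_mod_cast h3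
    have h5 : m = n := by linarith only [Nat.mul_self_inj.1 h4]
    rw [h5]
  refine ⟨(e ⟨χ, hχ⟩).1, fun J => ?_⟩
  have h3 := h1 J
  rw [← h2] at h3
  exact mul_left_cancel₀ hχ h3

end Fin

end Cfsg.Agent.H116.HeckeU
end

-- part: H116/HeckeU/Rgd
section
/-!
# Lemma T for groups with a root group datum (helper116)

* `lemT_rgd` : `(∀ φ, |∑ c_J ⟨φ, 1_{W_J}⟩| ≤ 1) → ∀ χ, |∑ c_J ⟨χ, 1_{P_J}⟩| ≤ 1`;
* `gram_rgd` : `∑_χ ⟨χ, 1_{P_J}⟩ ⟨χ, 1_{P_K}⟩ = ∑_φ ⟨φ, 1_{W_J}⟩ ⟨φ, 1_{W_K}⟩`.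
-/

set_option autoImplicit false
set_option linter.unusedSectionVars false

namespace Cfsg.Agent.H116.HeckeU

open Cfsg CoxeterSystem Cfsg.Agent.ChevalleyStructure.CoxeterGeom Cfsg.Agent.Tits.Roots Cfsg.Agent.Tits.Core
  Cfsg.Agent.Tits.Exchange Cfsg.Agent.Nodes.Reps Cfsg.Agent.Nodes.BNOf Cfsg.Agent.Nodes.StabComb
  Cfsg.Agent.Nodes.Bruhat Cfsg.Agent.Nodes.LeviDec Cfsg.Agent.Characters.Core
open Cfsg.Agent.H439.CC (mu)

universe u v

variable {I : Type*} {W : Type v} {Y : Type u} [Fintype I] [DecidableEq I] [Group W] [Group Y] {M : CoxeterMatrix I}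
  {cs : CoxeterSystem M W} {A : I → I → ℤ} {h : IsCartan M A} {p : ℕ} {T : Subgroup Y} {n : I → Y}
  {X : (I → ℤ) → Subgroup Y}

/-- The building of a root group datum, with the stabilizers of the residues of the standard chamber. -/
theorem exists_bldg_PJ [Finite W] (R : RGD cs h p T n X) (hgen : RGD.B cs h T X ⊔ NN cs R.nsys = ⊤) :
    ∃ Δ : Bldg cs (Y ⧸ RGD.B cs h T X),
      (∀ (g : Y) (x y : Y ⧸ RGD.B cs h T X), Δ.δ (g • x) (g • y) = Δ.δ x y) ∧
      (∀ x y x' y', Δ.δ x y = Δ.δ x' y' → ∃ g : Y, g • x = x' ∧ g • y = y') ∧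
      ∀ (J : Set I) (g : Y), g ∈ PJ cs h T X J ↔
        Δ.δ (QuotientGroup.mk 1) (g • (QuotientGroup.mk 1 : Y ⧸ RGD.B cs h T X)) ∈ WJ cs J := by
  obtain ⟨Δ, hiso, htr, hδ⟩ := H167.SteinbergRGD.exists_bldg R hgen
  refine ⟨Δ, hiso, htr, fun J g => ?_⟩
  have h1 : g • (QuotientGroup.mk 1 : Y ⧸ RGD.B cs h T X) = QuotientGroup.mk g := by
    rw [MulAction.Quotient.smul_mk, smul_eq_mul, mul_one]
  rw [h1, mem_PJ_iff_cell R]
  constructor
  · rintro ⟨w, hw, b₁, hb₁, k, hk, b₂, hb₂, rfl⟩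
    rw [(hδ 1 (b₁ * k * b₂) k w hk).2 ⟨b₁, hb₁, b₂, hb₂, by group⟩]
    exact hw
  · intro hw
    obtain ⟨k, hk⟩ := exists_rp cs R.nsys (Δ.δ (QuotientGroup.mk 1) (QuotientGroup.mk g))
    obtain ⟨b₁, hb₁, b₂, hb₂, e⟩ := (hδ 1 g k _ hk).1 rfl
    refine ⟨_, hw, b₁, hb₁, k, hk, b₂, hb₂, ?_⟩
    rw [← e]
    group

end Cfsg.Agent.H116.HeckeU
end

-- part: H116/HeckeU/Cmp
section
/-!
# The comparison of multiplicities (Tits' deformation theorem, strong form) (helper116)

* `cmp_bldg` : for a group `G` acting strongly transitively on a finite building, every constituent `χ` of the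
  permutation character on the chambers has a partner `φ ∈ Irr(W)` with `⟨χ, 1_{P_J}^G⟩ = ⟨φ, 1_{W_J}^W⟩` for all `J`;
* `cmp_of_rgd` : the version for root group data.
-/

set_option autoImplicit false
set_option linter.unusedSectionVars false

namespace Cfsg.Agent.H116.HeckeU

open CoxeterSystem Cfsg Cfsg.Agent.Tits.Exchange Module Cfsg.Agent.Tits.Core Matrix Cfsg.Agent.Characters.Core
open Cfsg.Agent.H157.HK (Wt L R LL RR Cas A Z e wd eJ pJ iJ eps rk smul_zero_m)
open Cfsg.Agent.H439.CC (mu)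

universe u v

section Strong

variable {I : Type*} {W : Type*} {M : CoxeterMatrix I} [Group W] {cs : CoxeterSystem M W} [Fintype W] [DecidableEq W]
  [Finite I]

theorem finite_of_sys {t : Wt cs} {ι : Type*} {z : ι → W → ℂ} (h : Sys cs t z) : Finite ι := by
  apply Nat.finite_of_card_ne_zero
  rw [h.card, H157.HK.finrank_Z]
  exact Nat.card_pos.ne'

/-- The correspondence of complete systems. -/
theorem strong' (τ : Wt cs) {ι ι' : Type*} {z : ι → W → ℂ} {z' : ι' → W → ℂ} (hz : Sys cs τ z)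
    (hz' : Sys cs (τ.smul 0) z') : ∃ e : ι ≃ ι', ∀ i (J : Set I),
      LinearMap.trace ℂ (W → ℂ) (Lm cs τ (Lm cs τ (z i) (eJ cs τ J))) =
      LinearMap.trace ℂ (W → ℂ) (Lm cs (τ.smul 0) (Lm cs (τ.smul 0) (z' (e i)) (eJ cs (τ.smul 0) J))) := by
  have h1 := finite_of_sys hz
  have h2 := finite_of_sys hz'
  have hs : H157.HK.Sys cs τ z := ⟨hz.mem, hz.idem, hz.orth, hz.ne, hz.card⟩
  have hs' : H157.HK.Sys cs (τ.smul 0) z' := ⟨hz'.mem, hz'.idem, hz'.orth, hz'.ne, hz'.card⟩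
  exact H157.HK.strong_trace (fun w => smul_zero_m cs τ w) hs hs'

end Strong

section Fin

variable {I : Type*} {W : Type v} {M : CoxeterMatrix I} [Group W] [Finite W] [Finite I] {cs : CoxeterSystem M W}
  {C : Type*} (Δ : Bldg cs C)
  [Finite C] {G : Type u} [Group G] [Finite G] [MulAction G C]
  (hiso : ∀ (g : G) (x y : C), Δ.δ (g • x) (g • y) = Δ.δ x y)
  (htr : ∀ x y x' y' : C, Δ.δ x y = Δ.δ x' y' → ∃ g : G, g • x = x' ∧ g • y = y')
  (x₀ : C) (P : Set I → Subgroup G)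
  (hP : ∀ (J : Set I) (g : G), g ∈ P J ↔ Δ.δ x₀ (g • x₀) ∈ WJ cs J)

include hiso htr x₀ hP

/-- **The comparison of multiplicities for strongly transitive groups.** -/
theorem cmp_bldg (χ : IrrCharacter G) (hχ : mu (P ∅) (χ : G → ℂ) ≠ 0) :
    ∃ φ : IrrCharacter W, ∀ J : Set I, mu (P J) (χ : G → ℂ) = mu (WJ cs J) (φ : W → ℂ) := by
  classical
  let _ : Fintype W := Fintype.ofFinite W
  exact cmp_of Δ hiso htr x₀ P hP (fun τ ι ι' z z' hz hz' => strong' τ hz hz') χ hχ

end Fin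

section RGDSec

open Cfsg.Agent.ChevalleyStructure.CoxeterGeom Cfsg.Agent.Tits.Roots
  Cfsg.Agent.Nodes.Reps Cfsg.Agent.Nodes.BNOf Cfsg.Agent.Nodes.StabComb
  Cfsg.Agent.Nodes.Bruhat Cfsg.Agent.Nodes.LeviDec

variable {I : Type*} {W : Type v} {Y : Type u} [Fintype I] [DecidableEq I] [Group W] [Group Y] {M : CoxeterMatrix I}
  {cs : CoxeterSystem M W} {A : I → I → ℤ} {h : IsCartan M A} {p : ℕ} {T : Subgroup Y} {n : I → Y}
  {X : (I → ℤ) → Subgroup Y}

/-- **The comparison of multiplicities for root group data.** -/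
theorem cmp_of_rgd [Finite W] [Finite Y] (R : RGD cs h p T n X) (hgen : RGD.B cs h T X ⊔ NN cs R.nsys = ⊤) :
    H439.CC.Cmp cs h T X := by
  intro χ hχ
  obtain ⟨Δ, hiso, htr, hP⟩ := exists_bldg_PJ R hgen
  exact cmp_bldg Δ hiso htr _ (fun J => PJ cs h T X J) hP χ (by rwa [H705.Dl.PsRgd.PJ_empty R])

end RGDSec

end Cfsg.Agent.H116.HeckeU
end
end

-- part: H116/HeckeU/Equiv
section
set_option linter.all false
open scoped Cfsg.Agent.FastGrp

/-!
# The bijection between `Irr(W)` and the constituents of `1_B^G` (helper116)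

* `equiv_bldg`, `equiv_rgd` : a bijection `e` between the irreducible characters `χ` of `G` with `⟨χ, 1_B^G⟩ ≠ 0` and
  `Irr(W)` with `⟨χ, 1_{P_J}^G⟩ = ⟨e χ, 1_{W_J}^W⟩` for all `J`;
* `unique_rgd` : the multiplicities of the parabolic permutation characters determine a constituent of `1_B^G` if they
  determine the corresponding character of `W`.
-/

set_option autoImplicit false
set_option linter.unusedSectionVars false

namespace Cfsg.Agent.H116.HeckeU

open CoxeterSystem Cfsg Cfsg.Agent.Tits.Exchange Module Cfsg.Agent.Tits.Core Cfsg.Agent.Characters.Core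
open Cfsg.Agent.H157.HK (Wt smul_zero_m)
open Cfsg.Agent.H439.CC (mu)

universe u v

theorem mu_bot {W : Type u} [Group W] [Finite W] (φ : W → ℂ) : mu (⊥ : Subgroup W) φ = φ 1 := by
  unfold mu
  rw [Subgroup.card_bot, Nat.cast_one, inv_one, one_mul, finsum_eq_single _ (1 : (⊥ : Subgroup W))]
  · rfl
  · intro x hx
    exact absurd (Subsingleton.elim x 1) hx

section Fin

variable {I : Type*} {W : Type v} {M : CoxeterMatrix I} [Group W] [Finite W] [Finite I] {cs : CoxeterSystem M W}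
  {C : Type*} (Δ : Bldg cs C)
  [Finite C] {G : Type u} [Group G] [Finite G] [MulAction G C]
  (hiso : ∀ (g : G) (x y : C), Δ.δ (g • x) (g • y) = Δ.δ x y)
  (htr : ∀ x y x' y' : C, Δ.δ x y = Δ.δ x' y' → ∃ g : G, g • x = x' ∧ g • y = y')
  (x₀ : C) (P : Set I → Subgroup G)
  (hP : ∀ (J : Set I) (g : G), g ∈ P J ↔ Δ.δ x₀ (g • x₀) ∈ WJ cs J)

include hiso htr x₀ hP

/-- **The bijection** between the constituents of the permutation character on the chambers and `Irr(W)`. -/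
theorem equiv_bldg : ∃ e : {χ : IrrCharacter G // mu (P ∅) (χ : G → ℂ) ≠ 0} ≃ IrrCharacter W,
    ∀ χ (J : Set I), mu (P J) (χ.1 : G → ℂ) = mu (WJ cs J) (e χ : W → ℂ) := by
  classical
  let _ : Fintype W := Fintype.ofFinite W
  let _ : Fintype C := Fintype.ofFinite C
  let _ : Fintype G := Fintype.ofFinite G
  have : Nonempty C := ⟨x₀⟩
  obtain ⟨τ, hτ⟩ := exists_wt_of Δ fun x x' w => card_indep Δ hiso htr x x' w
  have h0 : IsWt (thin cs) (τ.smul 0) := thin_isWt cs fun w => smul_zero_m cs τ w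
  obtain ⟨z, hz, hzt⟩ := exists_sys Δ hiso htr hτ x₀ P hP
  obtain ⟨z', hz', hzt'⟩ := exists_sys (thin cs) (thin_iso cs) (thin_tr cs) h0 (1 : W) (fun J => WJ cs J) (thin_hP cs)
  obtain ⟨e, he⟩ := strong' τ hz hz'
  have hne : ∀ φ : IrrCharacter W, mu (WJ cs ∅) (φ : W → ℂ) ≠ 0 := by
    intro φ
    rw [WJ_empty, mu_bot]
    exact isIrr_apply_one_ne_zero φ.2
  let e' : {φ : IrrCharacter W // mu (WJ cs ∅) (φ : W → ℂ) ≠ 0} ≃ IrrCharacter W :=
    Equiv.subtypeUnivEquiv hne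
  refine ⟨e.trans e', fun χ J => ?_⟩
  show mu (P J) (χ.1 : G → ℂ) = mu (WJ cs J) ((e χ).1 : W → ℂ)
  have h1 : ∀ J : Set I, mu (P ∅) (χ.1 : G → ℂ) * mu (P J) (χ.1 : G → ℂ) =
      mu (WJ cs ∅) ((e χ).1 : W → ℂ) * mu (WJ cs J) ((e χ).1 : W → ℂ) := by
    intro J
    rw [← hzt χ J, he, hzt']
  have h2 : mu (P ∅) (χ.1 : G → ℂ) = mu (WJ cs ∅) ((e χ).1 : W → ℂ) := by
    obtain ⟨m, hm⟩ := mu_nat (P ∅) (isIrr_isCharacter χ.1.2)
    obtain ⟨n, hn⟩ := mu_nat (WJ cs ∅) (isIrr_isCharacter (e χ).1.2)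
    have h3 := h1 ∅
    rw [hm, hn] at h3 ⊢
    have h4 : m * m = n * n := by exact_mod_cast h3
    rw [Nat.mul_self_inj.1 h4]
  have h3 := h1 J
  rw [← h2] at h3
  exact mul_left_cancel₀ χ.2 h3

end Fin

section RGDSec

open Cfsg.Agent.ChevalleyStructure.CoxeterGeom Cfsg.Agent.Tits.Roots
  Cfsg.Agent.Nodes.Reps Cfsg.Agent.Nodes.BNOf Cfsg.Agent.Nodes.StabComb
  Cfsg.Agent.Nodes.Bruhat Cfsg.Agent.Nodes.LeviDec

variable {I : Type*} {W : Type v} {Y : Type u} [Fintype I] [DecidableEq I] [Group W] [Group Y] {M : CoxeterMatrix I}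
  {cs : CoxeterSystem M W} {A : I → I → ℤ} {h : IsCartan M A} {p : ℕ} {T : Subgroup Y} {n : I → Y}
  {X : (I → ℤ) → Subgroup Y}

/-- **The bijection for root group data.** -/
theorem equiv_rgd [Finite W] [Finite Y] (R : RGD cs h p T n X) (hgen : RGD.B cs h T X ⊔ NN cs R.nsys = ⊤) :
    ∃ e : {χ : IrrCharacter Y // mu (RGD.B cs h T X) (χ : Y → ℂ) ≠ 0} ≃ IrrCharacter W,
      ∀ χ (J : Set I), mu (PJ cs h T X J) (χ.1 : Y → ℂ) = mu (H439.CC.WJ cs J) (e χ : W → ℂ) := by
  obtain ⟨Δ, hiso, htr, hP⟩ := exists_bldg_PJ R hgen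
  have h1 := equiv_bldg Δ hiso htr _ (fun J => PJ cs h T X J) hP
  rw [H705.Dl.PsRgd.PJ_empty R] at h1
  exact h1

end RGDSec

end Cfsg.Agent.H116.HeckeU
end
end
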